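import Cfsg.Agent.Lib.H59.E6Five.Levi
import Cfsg.Agent.Lib.LinGroup.Generation

/-!
The group generated by the root elements `x_r(1)` of the Levi part of type A3 is the special linear group of degree
four over the field with two elements, by its action on four root vectors.
-/

set_option autoImplicit false
set_option maxRecDepth 20000

namespace Cfsg.Agent.Lib.H59.E6Five

open Cfsg.Lie Cfsg.Agent.Lib.Chev Cfsg.Agent.Lib.Twisted Cfsg.Agent.Lib.Twisted.Core
open Cfsg.Agent.Lib.ChevField Cfsg.Agent.Lib.H59.Homocyclic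
open Cfsg.Agent.Lib.ChevCent (xg coe_xg word coe_word)
open scoped Matrix

/-- The coordinates spanning the natural module. -/
def bI (i : Fin 4) : chevE6.Idx :=
  Sum.inr ⟨[61, 58, 57, 16].getD i.val 0, by fin_cases i <;> decide⟩

theorem bI_injective : Function.Injective bI := by unfold Function.Injective; decide +kernel

/-- The roots of the Levi part with the positions of their transvections. -/
def genTab : List (ℕ × Fin 4 × Fin 4) :=
  [(46, 0, 1), (39, 1, 2), (69, 2, 3), (47, 0, 2), (70, 1, 3), (71, 0, 3),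
    (25, 1, 0), (32, 2, 1), (2, 3, 2), (24, 2, 0), (1, 3, 1), (0, 3, 0)]

theorem genTab_facts : (∀ r ∈ allA, ∃ e ∈ genTab, e.1 = r) ∧ (∀ i j : Fin 4, i ≠ j → ∃ e ∈ genTab, e.2 = (i, j)) ∧
    (∀ e ∈ genTab, e.1 ∈ allA ∧ (e.1 ∈ posA → e.2.1 < e.2.2)) := by
  decide +kernel

/-- An entry of a matrix over the field with two elements. -/
def ent {ι : Type} (M : Matrix ι ι (ZMod 2)) (i j : ι) : ZMod 2 := M i j

/-- The block. -/
def blk (M : Matrix chevE6.Idx chevE6.Idx (ZMod 2)) : Matrix (Fin 4) (Fin 4) (ZMod 2) := M.submatrix bI bI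

theorem gen_cols : ∀ e ∈ genTab,
    (∀ i : chevE6.Idx, (∀ j, bI j ≠ i) → ∀ j, ent (chevE6.x (ZMod 2) e.1 1) i (bI j) = 0) ∧
      blk (chevE6.x (ZMod 2) e.1 1) = Matrix.transvection e.2.1 e.2.2 (1 : ZMod 2) := by
  decide +kernel

/-- The matrices leaving the span of the four root vectors invariant. -/
def blockStable : Submonoid (GL chevE6.Idx (ZMod 2)) where
  carrier := {g | ∀ i : chevE6.Idx, (∀ j, bI j ≠ i) → ∀ j, (g : Matrix chevE6.Idx chevE6.Idx (ZMod 2)) i (bI j) = 0}
  one_mem' := fun i hi j => by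
    rw [Units.val_one, Matrix.one_apply_ne (fun e => hi j e.symm)]
  mul_mem' := fun {g h} hg hh i hi j => by
    rw [Units.val_mul, Matrix.mul_apply]
    refine Finset.sum_eq_zero fun k _ => ?_
    by_cases hk : ∀ l, bI l ≠ k
    · rw [hh k hk j, mul_zero]
    · push Not at hk
      obtain ⟨l, rfl⟩ := hk
      rw [hg i hi l, zero_mul]

theorem blk_mul {g h : GL chevE6.Idx (ZMod 2)} (hh : h ∈ blockStable) :
    blk (g * h : GL chevE6.Idx (ZMod 2)).val = blk g.val * blk h.val := by
  ext a b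
  rw [blk, Matrix.submatrix_apply, Units.val_mul, Matrix.mul_apply, Matrix.mul_apply]
  refine (Fintype.sum_of_injective bI bI_injective _ _ (fun k hk => ?_) fun l => rfl).symm
  rw [hh k (fun j e => hk ⟨j, e⟩) b, mul_zero]

theorem closure_le_of_finite {G : Type*} [Group G] [Finite G] {s : Set G} {M : Submonoid G} (h : s ⊆ M) :
    (Subgroup.closure s : Set G) ⊆ M := by
  intro x hx
  have : x ∈ (Subgroup.closure s).toSubmonoid := hx
  rw [Subgroup.closure_toSubmonoid_of_isOfFinOrder fun x _ => isOfFinOrder_of_finite x] at this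
  exact Submonoid.closure_le.2 h this

theorem X_val {r : ℕ} (hr : r ∈ allA) :
    (X r (1 : ZMod 2) : GL chevE6.Idx (ZMod 2)).val = chevE6.x (ZMod 2) r 1 := coe_xg hE r 1

theorem hGrp_stable {g : GL chevE6.Idx (ZMod 2)} (hg : g ∈ hGrp (ZMod 2)) : g ∈ blockStable := by
  refine closure_le_of_finite (M := blockStable) ?_ hg
  rintro _ ⟨r, hr, rfl⟩
  obtain ⟨e, he, rfl⟩ := genTab_facts.1 r hr
  intro i hi j
  rw [X_val hr]
  exact (gen_cols e he).1 i hi j

theorem blk_one : blk (1 : GL chevE6.Idx (ZMod 2)).val = 1 := by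
  rw [blk, Units.val_one, Matrix.submatrix_one _ bI_injective]

theorem det_blk {g : GL chevE6.Idx (ZMod 2)} (hg : g ∈ hGrp (ZMod 2)) : (blk g.val).det = 1 := by
  have e : (blk g.val).det * (blk (g⁻¹).val).det = 1 := by
    rw [← Matrix.det_mul, ← blk_mul (hGrp_stable (inv_mem hg)), mul_inv_cancel, blk_one, Matrix.det_one]
  revert e
  generalize (blk g.val).det = a
  generalize (blk (g⁻¹).val).det = b
  revert a b
  decide

/-- The action on the four root vectors. -/
def natHom : hGrp (ZMod 2) →* Matrix.SpecialLinearGroup (Fin 4) (ZMod 2) :=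
  MonoidHom.mk' (fun g => ⟨blk g.1.val, det_blk g.2⟩) fun _ h => Subtype.ext (blk_mul (hGrp_stable h.2))

theorem natHom_val (g : hGrp (ZMod 2)) : (natHom g).val = blk g.1.val := rfl

theorem blk_X {e : ℕ × Fin 4 × Fin 4} (he : e ∈ genTab) :
    blk (X e.1 (1 : ZMod 2) : GL chevE6.Idx (ZMod 2)).val = Matrix.transvection e.2.1 e.2.2 1 := by
  rw [X_val (genTab_facts.2.2 e he).1]
  exact (gen_cols e he).2

theorem natHom_surjective : Function.Surjective natHom := by
  intro A
  induction A using LinGroup.SL_transvection_induction with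
  | h1 => exact ⟨1, map_one _⟩
  | ht i j h c =>
    rcases (show ∀ c : ZMod 2, c = 0 ∨ c = 1 by decide) c with rfl | rfl
    · exact ⟨1, Subtype.ext (by rw [map_one]; simp [Matrix.SpecialLinearGroup.transvection])⟩
    · obtain ⟨e, he, hij⟩ := genTab_facts.2.1 i j h
      refine ⟨⟨X e.1 1, mem_hGrp (genTab_facts.2.2 e he).1⟩, Subtype.ext ?_⟩
      rw [natHom_val, blk_X he, hij]
      rfl
  | hmul A B hA hB =>
    obtain ⟨a, rfl⟩ := hA
    obtain ⟨b, rfl⟩ := hB
    exact ⟨a * b, map_mul _ _ _⟩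

/-! ### Upper triangular matrices -/

/-- The elements whose block is upper triangular. -/
def upperBlock : Submonoid (GL chevE6.Idx (ZMod 2)) where
  carrier := {g | g ∈ blockStable ∧ (blk g.val).BlockTriangular id}
  one_mem' := ⟨one_mem _, by rw [blk_one]; exact Matrix.blockTriangular_one⟩
  mul_mem' := fun {g h} hg hh => ⟨mul_mem hg.1 hh.1, by rw [blk_mul hh.1]; exact hg.2.mul hh.2⟩

theorem uGrpA_upper {g : GL chevE6.Idx (ZMod 2)} (hg : g ∈ uGrpA (ZMod 2)) : (blk g.val).BlockTriangular id := by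
  refine (closure_le_of_finite (M := upperBlock) ?_ hg).2
  rintro _ ⟨r, hr, rfl⟩
  have hrA := (posA_facts.1 r hr).1
  refine ⟨hGrp_stable (mem_hGrp hrA), ?_⟩
  obtain ⟨e, he, rfl⟩ := genTab_facts.1 r hrA
  rw [blk_X he]
  exact Matrix.blockTriangular_transvection (le_of_lt ((genTab_facts.2.2 e he).2 hr)) 1

/-- The fundamental reflections of the Levi part. -/
def letW : Fin 3 → ℕ × List ℕ
  | 0 => (25, [1])
  | 1 => (39, [3])
  | 2 => (2, wG)

/-- The words of the Levi part in these reflections. -/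
def levS : List (List (Fin 3)) :=
  let a : List (List (Fin 3)) := [[], [1], [0], [0, 1], [1, 0], [0, 1, 0]]
  a ++ a.map ([2] ++ ·) ++ a.map ([1, 2] ++ ·) ++ a.map ([0, 1, 2] ++ ·)

theorem levS_eq : levW = levS.map fun l => (l.map fun i => (letW i).2).flatten := by decide +kernel

/-- The block of a reflection. -/
def letM (i : Fin 3) : Matrix (Fin 4) (Fin 4) (ZMod 2) :=
  match i with
  | 0 => Matrix.transvection 1 0 1 * Matrix.transvection 0 1 1 * Matrix.transvection 1 0 1
  | 1 => Matrix.transvection 1 2 1 * Matrix.transvection 2 1 1 * Matrix.transvection 1 2 1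
  | 2 => Matrix.transvection 3 2 1 * Matrix.transvection 2 3 1 * Matrix.transvection 3 2 1

theorem levS_upper : ∀ l ∈ levS, (∀ a b : Fin 4, b < a → ent (l.map letM).prod a b = 0) → l = [] := by
  decide +kernel

theorem letW_rootWeyl (i : Fin 3) : rootWeyl hE (ZMod 2) (letW i).1 = nProd hE (ZMod 2) (letW i).2 := by
  match i with
  | 0 => exact rootWeyl_word (r := 25) (K := [1]) (i := 1) (L := [1]) (by simp)
  | 1 =>
    exact rootWeyl_eq' rootedE6 (K := []) (by simp [IsWord]) (i := 3) (show 3 < chevE6.rank by decide)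
      (L := [3]) (by simp [IsWord, rank6]) reflection_simple.1 (fun s _ => rfl)
  | 2 => exact rootWeyl_word (r := 2) (K := [4, 5, 2, 3, 4, 1, 3, 2, 0]) (i := 0) (L := wG) (by simp)

theorem blk_rootWeyl {e e' : ℕ × Fin 4 × Fin 4} (he : e ∈ genTab) (he' : e' ∈ genTab) (heq : e'.1 = ng chevE6 e.1) :
    blk (rootWeyl hE (ZMod 2) e.1).val =
      Matrix.transvection e.2.1 e.2.2 1 * Matrix.transvection e'.2.1 e'.2.2 1 * Matrix.transvection e.2.1 e.2.2 1 := by
  have h1 := hGrp_stable (mem_hGrp (F := ZMod 2) (genTab_facts.2.2 e he).1)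
  have h2 := hGrp_stable (mem_hGrp (F := ZMod 2) (genTab_facts.2.2 e' he').1)
  rw [rootWeyl, ← heq, blk_mul h1, blk_mul h2, blk_X he, blk_X he']

theorem letW_tab : ∀ i : Fin 3, ∃ e ∈ genTab, ∃ e' ∈ genTab, e.1 = (letW i).1 ∧ e'.1 = ng chevE6 e.1 ∧
    Matrix.transvection e.2.1 e.2.2 (1 : ZMod 2) * Matrix.transvection e'.2.1 e'.2.2 1 *
      Matrix.transvection e.2.1 e.2.2 1 = letM i := by
  decide +kernel

theorem letW_block (i : Fin 3) : blk (rootWeyl hE (ZMod 2) (letW i).1).val = letM i := by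
  obtain ⟨e, he, e', he', e1, e2, e3⟩ := letW_tab i
  rw [← e1, ← e3]
  exact blk_rootWeyl he he' e2

theorem levS_block : ∀ l : List (Fin 3),
    nProd hE (ZMod 2) (l.map fun i => (letW i).2).flatten ∈ hGrp (ZMod 2) ∧
      blk (nProd hE (ZMod 2) (l.map fun i => (letW i).2).flatten).val = (l.map letM).prod := by
  intro l
  induction l with
  | nil =>
    refine ⟨by simp [nProd], ?_⟩
    show blk (nProd hE (ZMod 2) []).val = 1
    rw [show nProd hE (ZMod 2) [] = 1 from rfl, blk_one]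
  | cons i l ih =>
    have hA : ∀ i, (letW i).1 ∈ allA := by decide
    have hw := rootWeyl_mem (F := ZMod 2) (hA i)
    rw [List.map_cons, List.flatten_cons, nProd_append, ← letW_rootWeyl]
    refine ⟨mul_mem hw ih.1, ?_⟩
    refine (blk_mul (g := rootWeyl hE (ZMod 2) (letW i).1) (hGrp_stable ih.1)).trans ?_
    rw [ih.2, List.map_cons, List.prod_cons]
    exact congrArg (fun M : Matrix (Fin 4) (Fin 4) (ZMod 2) => M * (l.map letM).prod) (letW_block i)

theorem pos_inj : ∀ c : Fin 6 → ZMod 2,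
    Matrix.transvection (1 : Fin 4) 2 (c 0) * Matrix.transvection 0 1 (c 1) * Matrix.transvection 0 2 (c 2) *
      Matrix.transvection 2 3 (c 3) * Matrix.transvection 1 3 (c 4) * Matrix.transvection 0 3 (c 5) = 1 →
    c = 0 := by
  decide +kernel

theorem uGrpA_inj {g : GL chevE6.Idx (ZMod 2)} (hg : g ∈ uGrpA (ZMod 2)) (h1 : blk g.val = 1) : g = 1 := by
  have hpos : ∀ r ∈ posA, r ∈ posSet chevE6 := fun r hr =>
    ⟨(posA_facts.1 r hr).2, (allA_facts r (posA_facts.1 r hr).1).1⟩
  obtain ⟨co, -, eco⟩ := hE.exists_prod posA posA_facts.2.2.1 hpos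
    (fun r hr s hs _ _ c hc => posA_facts.2.2.2 r hr s hs c hc) g (uGrpA_le_pos hg)
  have eg : g = word hE posA co := Units.ext (by rw [eco, coe_word])
  have hb : ∀ e ∈ genTab, ∀ t : ZMod 2, blk (X e.1 t : GL chevE6.Idx (ZMod 2)).val =
      Matrix.transvection e.2.1 e.2.2 t ∧ (X e.1 t : GL chevE6.Idx (ZMod 2)) ∈ blockStable := by
    intro e he t
    rcases (show ∀ t : ZMod 2, t = 0 ∨ t = 1 by decide) t with rfl | rfl
    · rw [show (X e.1 (0 : ZMod 2)) = 1 from Cfsg.Agent.Lib.ChevCent.xg_zero hE _, blk_one, Matrix.transvection_zero]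
      exact ⟨rfl, one_mem _⟩
    · exact ⟨blk_X he, hGrp_stable (mem_hGrp (genTab_facts.2.2 e he).1)⟩
  obtain ⟨b39, s39⟩ := hb (39, 1, 2) (by simp [genTab]) (co 39)
  obtain ⟨b46, s46⟩ := hb (46, 0, 1) (by simp [genTab]) (co 46)
  obtain ⟨b47, s47⟩ := hb (47, 0, 2) (by simp [genTab]) (co 47)
  obtain ⟨b69, s69⟩ := hb (69, 2, 3) (by simp [genTab]) (co 69)
  obtain ⟨b70, s70⟩ := hb (70, 1, 3) (by simp [genTab]) (co 70)
  obtain ⟨b71, s71⟩ := hb (71, 0, 3) (by simp [genTab]) (co 71)
  have ew : g = X 39 (co 39) * X 46 (co 46) * X 47 (co 47) * X 69 (co 69) * X 70 (co 70) * X 71 (co 71) := by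
    rw [eg]
    simp only [word, posA, X, List.map_cons, List.map_nil, List.prod_cons, List.prod_nil, mul_one, mul_assoc]
  rw [ew, blk_mul s71, blk_mul s70, blk_mul s69, blk_mul s47, blk_mul s46, b39, b46, b47, b69, b70, b71] at h1
  have h0 := pos_inj ![co 39, co 46, co 47, co 69, co 70, co 71] h1
  have hc : ∀ k : Fin 6, ![co 39, co 46, co 47, co 69, co 70, co 71] k = 0 := fun k => congrFun h0 k
  have c39 : co 39 = 0 := hc 0
  have c46 : co 46 = 0 := hc 1
  have c47 : co 47 = 0 := hc 2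
  have c69 : co 69 = 0 := hc 3
  have c70 : co 70 = 0 := hc 4
  have c71 : co 71 = 0 := hc 5
  rw [ew, c39, c46, c47, c69, c70, c71]
  simp [X, Cfsg.Agent.Lib.ChevCent.xg_zero]

theorem natHom_injective {F : Type*} [Field F] [CharP F 2] (z : Multiplicative (ZMod 15) →* Fˣ)
    (hz : Function.Injective z) (hsurj : Function.Surjective z) (φ : F ≃+* F) (hφ : ∀ t, φ t = t ^ 2) :
    Function.Injective natHom := by
  rw [injective_iff_map_eq_one]
  rintro ⟨v, hv⟩ he
  have he' : blk v.val = 1 := congrArg Subtype.val he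
  let f : ZMod 2 →+* F := ZMod.castHom dvd_rfl F
  have hy : glMap chevE6 f v ∈ hGrp F := (glMap_hGrp f).le (Subgroup.mem_map_of_mem _ hv)
  have hn0 : ∀ g ∈ hGrp F, Commute (nProd hE F [0]) g := by
    intro g hg
    induction hg using Subgroup.closure_induction with
    | mem x hx =>
      obtain ⟨r, hr, rfl⟩ := hx
      obtain ⟨hr72, -, -, e, -⟩ := allA_facts r hr
      refine mul_inv_eq_iff_eq_mul.1 ?_
      rw [X, nProd_conj_xg hE (isWord6 (by simp)) (show r < chevE6.nroots from hr72), e]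
    | one => exact Commute.one_right _
    | mul a b _ _ iha ihb => exact iha.mul_right ihb
    | inv a _ iha => exact iha.inv_right
  obtain ⟨k, L, u₁, u, hL, hu₁, hu, e⟩ := cent_form z φ hφ hz hsurj (hGrp_le_group hy) (commute_torE_hGrp z hy)
    (by rw [SL, sig_hGrp φ hφ hy, (hn0 _ hy).eq, mul_inv_cancel_right])
  have hk : k = 0 := by
    refine torE_not_mem z φ hz hφ ?_
    rw [eq_mul_inv_of_mul_eq e.symm]
    exact mul_mem hy (inv_mem (mul_mem (mul_mem (uGrpA_le hu₁) (levW_mem hL)) (uGrpA_le hu)))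
  rw [hk, show ((0 : Fin 5), (0 : Fin 5)) = 0 from rfl, lam_pair.2.2.2.2.1,
    show torE z (0 : Fin chevE6.rank → ZMod 15) = 1 by simp [torE], one_mul] at e
  obtain ⟨w₁, hw₁, rfl⟩ := (glMap_uGrpA f).ge hu₁
  obtain ⟨w, hw, rfl⟩ := (glMap_uGrpA f).ge hu
  rw [← glMap_nProd hE f, ← map_mul, ← map_mul] at e
  have ev : v = w₁ * nProd hE (ZMod 2) L * w := glMap_injective f e
  rw [levS_eq] at hL
  obtain ⟨l, hl, rfl⟩ := List.mem_map.1 hL
  obtain ⟨hn, hnb⟩ := levS_block l
  have hsw := hGrp_stable (uGrpA_le hw)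
  have eb : blk w₁.val * (l.map letM).prod * blk w.val = 1 := by
    rw [← hnb, ← blk_mul (hGrp_stable hn), ← blk_mul hsw, ← ev, he']
  have i1 : blk (w₁⁻¹).val * blk w₁.val = 1 := by
    rw [← blk_mul (hGrp_stable (uGrpA_le hw₁)), inv_mul_cancel, blk_one]
  have i2 : blk w.val * blk (w⁻¹).val = 1 := by
    rw [← blk_mul (hGrp_stable (inv_mem (uGrpA_le hw))), mul_inv_cancel, blk_one]
  have etri : (l.map letM).prod = blk (w₁⁻¹).val * blk (w⁻¹).val := by
    calc (l.map letM).prod = blk (w₁⁻¹).val * blk w₁.val * (l.map letM).prod * (blk w.val * blk (w⁻¹).val) := by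
          rw [i1, i2, one_mul, mul_one]
      _ = blk (w₁⁻¹).val * (blk w₁.val * (l.map letM).prod * blk w.val) * blk (w⁻¹).val := by
          simp only [mul_assoc]
      _ = _ := by rw [eb, mul_one]
  have hl0 : l = [] := levS_upper l hl fun a b hab => by
    rw [ent, etri]
    exact ((uGrpA_upper (inv_mem hw₁)).mul (uGrpA_upper (inv_mem hw))) hab
  subst hl0
  rw [show nProd hE (ZMod 2) (([] : List (Fin 3)).map fun i => (letW i).2).flatten = 1 from rfl, mul_one] at ev
  have hvU : v ∈ uGrpA (ZMod 2) := by rw [ev]; exact mul_mem hw₁ hw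
  exact Subtype.ext (uGrpA_inj hvU he')

end Cfsg.Agent.Lib.H59.E6Five
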