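import Cfsg.Agent.Lib.ChevCent.Lemmas
import Cfsg.Agent.Lib.Twisted.Core.Graph

/-!
In characteristic two the representatives of Weyl group elements depend only on the element and permute the root
elements without signs.
-/

set_option autoImplicit false

namespace Cfsg.Agent.Lib.H59.E6Five

open Cfsg.Lie Cfsg.Agent.Lib.Chev Cfsg.Agent.Lib.ChevCent
open scoped Matrix

variable {D : ChevalleyDatum} {C : Cert} {F : Type*} [Field F] [CharP F 2]

theorem xg_sq (h : Checked D C) (r : ℕ) (t : F) : xg h r t * xg h r t = 1 := by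
  rw [← xg_add, CharTwo.add_self_eq_zero, xg_zero]

theorem xg_inv_self (h : Checked D C) (r : ℕ) (t : F) : (xg h r t)⁻¹ = xg h r t :=
  inv_eq_of_mul_eq_one_right (xg_sq h r t)

theorem nProd_conj_xg (h : Checked D C) {L : List ℕ} (hL : IsWord D L) {r : ℕ} (hr : r < D.nroots) (t : F) :
    nProd h F L * xg h r t * (nProd h F L)⁻¹ = xg h (perm C L r) t := by
  rw [mul_inv_eq_iff_eq_mul]
  refine Units.ext ?_
  rw [Units.val_mul, Units.val_mul, coe_xg, coe_xg, h.nProd_mul_x hL hr, weta_cast, one_mul]

theorem diag_eq_one (hh : Rooted D C) {t : GL D.Idx F} (ht : t ∈ D.diagonalSubgroup F)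
    (hc : ∀ r < D.nroots, t * xg hh.toChecked r 1 * t⁻¹ = xg hh.toChecked r 1) : t = 1 := by
  have h := hh.toChecked
  rw [hh.diagonalSubgroup_eq] at ht
  obtain ⟨c, rfl⟩ := ht
  have key : ∀ r < D.nroots, torusFun D c r = 1 := by
    intro r hr
    have e := congrArg (fun g : GL D.Idx F => (g : Matrix D.Idx D.Idx F)) (hc r hr)
    have hx : xg h r (1 : F) = xGL h F hr 1 := Units.ext (coe_xg h r 1)
    simp only [hx, h.conj_x hr, coe_xGL, mul_one] at e
    exact Units.ext (h.x_injective hr e)
  refine Units.ext ?_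
  rw [coe_torusHom, Units.val_one, ← charDiag_one (D := D) (F := F)]
  unfold ChevalleyDatum.charDiag
  congr 1
  funext x
  rcases x with i | s
  · rfl
  · simp only [Sum.elim_inr]
    rw [key s s.2]

theorem nProd_congr (hh : Rooted D C) {L L' : List ℕ} (hL : IsWord D L) (hL' : IsWord D L')
    (e : ∀ r < D.nroots, perm C L r = perm C L' r) : nProd hh.toChecked F L = nProd hh.toChecked F L' := by
  have h := hh.toChecked
  have hd := hh.diag_of_wperm_eq (F := F) hL hL' ((h.wperm_eq_iff hL hL').2 e)
  refine inv_mul_eq_one.1 (diag_eq_one hh hd fun r hr => ?_)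
  rw [mul_inv_rev, inv_inv,
    show ∀ n m x : GL D.Idx F, n⁻¹ * m * x * (m⁻¹ * n) = n⁻¹ * (m * x * m⁻¹) * n by intros; group,
    nProd_conj_xg h hL' hr, ← e r hr, ← nProd_conj_xg h hL hr]
  group

theorem nProd_reverse (hh : Rooted D C) {L : List ℕ} (hL : IsWord D L) :
    nProd hh.toChecked F L.reverse = (nProd hh.toChecked F L)⁻¹ := by
  have h := hh.toChecked
  have hR : IsWord D L.reverse := fun i hi => hL i (List.mem_reverse.1 hi)
  refine eq_inv_of_mul_eq_one_left ?_
  rw [← nProd_append, ← show nProd h F ([] : List ℕ) = 1 by simp [nProd]]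
  refine nProd_congr hh (hR.append hL) (by simp [IsWord]) fun r hr => ?_
  rw [perm_append]
  exact h.perm_reverse hL hr

/-- The representative of the reflection in a root as a product of root elements. -/
noncomputable def rootWeyl (h : Checked D C) (F : Type*) [Field F] (r : ℕ) : GL D.Idx F :=
  Cfsg.Agent.Lib.ChevCent.xg h r 1 * Cfsg.Agent.Lib.ChevCent.xg h (ng D r) 1 * Cfsg.Agent.Lib.ChevCent.xg h r 1

theorem rootWeyl_eq (hh : Rooted D C) {K : List ℕ} (hK : IsWord D K) {i : ℕ} (hi : i < D.rank) :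
    rootWeyl hh.toChecked F (perm C K (D.simple i)) = nProd hh.toChecked F (K ++ [i] ++ K.reverse) := by
  have h := hh.toChecked
  have hp := h.simple_lt hi
  rw [nProd_append, nProd_append, nProd_reverse hh hK,
    show nProd hh.toChecked F [i] = xg h (D.simple i) 1 * xg h (ng D (D.simple i)) 1 * xg h (D.simple i) 1 by
      refine Units.ext ?_
      simp only [Units.val_mul, coe_xg, nProd, List.map_cons, List.map_nil, List.prod_cons, List.prod_nil, mul_one,
        coe_nS h hi, ChevalleyDatum.nMat, ChevalleyDatum.nWord, ChevalleyDatum.wordMat, h.neg_eq hp, inv_one,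
        CharTwo.neg_eq, mul_assoc]]
  set n := nProd hh.toChecked F K
  calc rootWeyl hh.toChecked F (perm C K (D.simple i))
      = xg h (perm C K (D.simple i)) 1 * xg h (perm C K (ng D (D.simple i))) 1 * xg h (perm C K (D.simple i)) 1 := by
        rw [rootWeyl, h.perm_ng hK hp]
    _ = (n * xg h (D.simple i) 1 * n⁻¹) * (n * xg h (ng D (D.simple i)) 1 * n⁻¹) *
          (n * xg h (D.simple i) 1 * n⁻¹) := by
        rw [nProd_conj_xg h hK hp, nProd_conj_xg h hK (Checked.ng_lt hp)]
    _ = _ := by group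

theorem rootWeyl_eq' (hh : Rooted D C) {K : List ℕ} (hK : IsWord D K) {i : ℕ} (hi : i < D.rank) {L : List ℕ}
    (hL : IsWord D L) {r : ℕ} (er : perm C K (D.simple i) = r)
    (e : ∀ s < D.nroots, perm C L s = perm C (K ++ [i] ++ K.reverse) s) :
    rootWeyl hh.toChecked F r = nProd hh.toChecked F L := by
  rw [← er, rootWeyl_eq hh hK hi, nProd_congr hh hL
    ((hK.append (by simp [IsWord, hi])).append fun j hj => hK j (List.mem_reverse.1 hj)) e]

end Cfsg.Agent.Lib.H59.E6Five
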