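import Cfsg.Agent.Lib.Twisted.Core.E6
import Cfsg.Agent.Lib.ChevCent.Basic
import Cfsg.Agent.Lib.H59.Homocyclic.Coweight

/-!
Tables for the elements of order five of `²E₆(2)`: two pairs of orthogonal roots, the Levi part of type A3 which
centralizes the first torus, and the elements of the Weyl group commuting with the twist.
-/

set_option autoImplicit false
set_option maxRecDepth 20000

namespace Cfsg.Agent.Lib.H59.E6Five

open Cfsg.Lie Cfsg.Agent.Lib.Chev Cfsg.Agent.Lib.Twisted
open Cfsg.Agent.Lib.ChevCent (evenTerms)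

/-- The positive roots of the Levi part. -/
def posA : List ℕ := [39, 46, 47, 69, 70, 71]

/-- The roots orthogonal to the first and to the last fundamental root. -/
def allA : List ℕ := [0, 1, 2, 24, 25, 32, 39, 46, 47, 69, 70, 71]

/-- The reflection in the third fundamental root of the Levi part. -/
def wG : List ℕ := [4, 2, 3, 0, 2, 1, 3, 4, 5, 4, 3, 2, 1, 3, 4, 0, 2]

/-- The twist of the torus. -/
def cStar : List ℕ := [1, 3, 1] ++ [1] ++ wG ++ [0]

/-- Two elements of the Weyl group commuting with the twist. -/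
def wC : Bool → List ℕ
  | false => [1, 3, 4, 5, 4, 3, 2, 1, 3, 4, 2]
  | true => [5, 2, 3, 4, 3, 0, 2, 1, 3, 2, 1]

/-- The images of the first vector and of the second vector under the two elements. -/
def imgP (b : Bool) (p : Fin 5 × Fin 5) : Fin 5 × Fin 5 :=
  match b with
  | false => (2 * p.1 + 3 * p.2, 2 * p.1 + 2 * p.2)
  | true => (p.1 + 3 * p.2, 2 * p.1 + 4 * p.2)

/-- The twist on the roots. -/
def cTab : List (ℕ × ℕ) := [(0, 46), (1, 47), (2, 71), (3, 61), (4, 50), (5, 48), (6, 26), (7, 11), (8, 62), (9, 51), (10, 30), (11, 64), (12, 53), (13, 33), (14, 67), (15, 35), (16, 49), (17, 27), (18, 12), (19, 63), (20, 52), (21, 31), (22, 28), (23, 13), (24, 1), (25, 32), (26, 65), (27, 54), (28, 34), (29, 68), (30, 29), (31, 14), (32, 2), (33, 66), (34, 55), (35, 56), (36, 15), (37, 16), (38, 5), (39, 69), (40, 57), (41, 42), (42, 3), (43, 37), (44, 17), (45, 6), (46, 39), (47, 70), (48, 58), (49, 43), (50, 40), (51, 19), (52, 8), (53, 59), (54, 44), (55, 22),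 (56, 36), (57, 4), (58, 38), (59, 18), (60, 7), (61, 41), (62, 20), (63, 9), (64, 60), (65, 45), (66, 23), (67, 21), (68, 10), (69, 0), (70, 24), (71, 25)]

/-- The two elements on the roots. -/
def wTab : Bool → List (ℕ × ℕ)
  | false => [(0, 4), (1, 12), (2, 14), (3, 2), (4, 9), (5, 13), (6, 1), (7, 7), (8, 3), (9, 10), (10, 0), (11, 11), (12, 15), (13, 5), (14, 8), (15, 6), (16, 49), (17, 27), (18, 36), (19, 29), (20, 41), (21, 20), (22, 28), (23, 38), (24, 18), (25, 21), (26, 47), (27, 54), (28, 34), (29, 39), (30, 46), (31, 52), (32, 31), (33, 48), (34, 55), (35, 26), (36, 45), (37, 16), (38, 23), (39, 40), (40, 19), (41, 25), (42, 32), (43, 37), (44, 17), (45, 24), (46, 50), (47, 53), (48, 33), (49, 43), (50, 51), (51, 30), (52, 42), (53, 35), (54, 44), (55, 22), (56, 65), (57, 63), (58, 66), (59, 56), (60, 60), (61, 71), (62, 61), (63, 68), (64, 64), (65, 70), (66, 58), (67, 62), (68, 69), (69, 57), (70, 59), (71, 67)]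
  | true => [(0, 23), (1, 7), (2, 5), (3, 31), (4, 42), (5, 0), (6, 18), (7, 24), (8, 16), (9, 22), (10, 57), (11, 1), (12, 6), (13, 32), (14, 30), (15, 17), (16, 9), (17, 36), (18, 45), (19, 34), (20, 43), (21, 68), (22, 20), (23, 25), (24, 60), (25, 58), (26, 12), (27, 15), (28, 52), (29, 50), (30, 4), (31, 10), (32, 38), (33, 2), (34, 8), (35, 27), (36, 44), (37, 63), (38, 69), (39, 33), (40, 61), (41, 67), (42, 21), (43, 19), (44, 56), (45, 59), (46, 13), (47, 11), (48, 46), (49, 51), (50, 3), (51, 28), (52, 37), (53, 26), (54, 35), (55, 62), (56, 54), (57, 41), (58, 39), (59, 65), (60, 70), (61, 14), (62, 49), (63, 55), (64, 47), (65, 53), (66, 71), (67, 29), (68, 40), (69, 66), (70, 64), (71, 48)]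

/-- The vectors reached from the first one in at most `k` steps. -/
def reachP : ℕ → List (Fin 5 × Fin 5)
  | 0 => [(1, 0)]
  | k + 1 => (reachP k ++ (reachP k).map (imgP false) ++ (reachP k).map (imgP true)).dedup

/-- The words of the Weyl group of the Levi part. -/
def levW : List (List ℕ) :=
  let a : List (List ℕ) := [[], [3], [1], [1, 3], [3, 1], [1, 3, 1]]
  a ++ a.map (wG ++ ·) ++ a.map (([3] ++ wG) ++ ·) ++ a.map (([1, 3] ++ wG) ++ ·)

/-- The value at a root of a vector of exponents. -/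
def fv (lam : Fin chevE6.rank → ZMod 15) (r : ℕ) : ZMod 15 :=
  ∑ i : Fin chevE6.rank, (chevE6.cartan i.val r : ZMod 15) * lam i

/-- The exponents of the element of order five. -/
def lamX : Fin chevE6.rank → ZMod 15 := fun i => [3, 0, 0, 0, 0, 6].getD i.val 0

/-- The exponents of a second element of order five. -/
def lamY : Fin chevE6.rank → ZMod 15 := fun i => [6, 9, 12, 6, 12, 6].getD i.val 0

/-- The exponents of a pair. -/
def lamP (p : Fin 5 × Fin 5) : Fin chevE6.rank → ZMod 15 :=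
  (p.1.val : ZMod 15) • lamX + (p.2.val : ZMod 15) • lamY

theorem rank6 : chevE6.rank = 6 := rfl
theorem nroots72 : chevE6.nroots = 72 := rfl

theorem isWord_lists : (∀ b, IsWord chevE6 (wC b)) ∧ IsWord chevE6 cStar ∧ IsWord chevE6 wG ∧
    ∀ L ∈ levW, IsWord chevE6 L := by
  simp only [IsWord]
  decide +kernel

theorem root_facts : (∀ r < 72, e6Graph.root r < 72 ∧ e6Graph.root (e6Graph.root r) = r ∧
      (e6Graph.sign r = 1 ∨ e6Graph.sign r = -1) ∧ e6Graph.root (ng chevE6 r) = ng chevE6 (e6Graph.root r)) := by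
  decide +kernel

theorem allA_facts : ∀ r ∈ allA, r < 72 ∧ e6Graph.root r = r ∧ e6Graph.sign r = 1 ∧
    perm E6.cert [0] r = r ∧ fv lamX r = 0 ∧ ng chevE6 r ∈ allA ∧
    (∀ s ∈ [56, 15, 36, 35], s ≠ ng chevE6 r ∧ evenTerms E6.cert r s = true) := by
  decide +kernel

theorem fv_zero : ∀ r < 72, fv lamX r = 0 → r ∈ allA := by decide +kernel

theorem posA_facts : (∀ r ∈ posA, r ∈ allA ∧ 36 ≤ r) ∧ (∀ r ∈ allA, 36 ≤ r → r ∈ posA) ∧
    posA.Pairwise (· < ·) ∧ ∀ r ∈ posA, ∀ s ∈ posA, ∀ c ∈ cTerms E6.cert r s, c.1 ∈ posA := by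
  decide +kernel

/-- The pairs of root subgroups which commute. -/
theorem pair_facts : ∀ e ∈ [(56, 36), (46, 69), (47, 70)], e.1 < 72 ∧ e.2 < 72 ∧
    ∀ a ∈ [e.1, ng chevE6 e.1], ∀ b ∈ [e.2, ng chevE6 e.2],
      b ≠ ng chevE6 a ∧ evenTerms E6.cert a b = true := by
  decide +kernel

theorem twist_facts :
    (perm E6.cert [] (e6Graph.root 56) = 36 ∧ perm E6.cert [] (e6Graph.root 36) = 56) ∧
    (perm E6.cert ([1] ++ wG ++ [0]) (e6Graph.root 47) = 70 ∧
      perm E6.cert ([1] ++ wG ++ [0]) (e6Graph.root 70) = 47) := by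
  decide +kernel

theorem reflection_words : ∀ e ∈ [(15, [0], 0, [0]), (25, [1], 1, [1]), (24, [3, 1], 1, [1, 3, 1]),
      (2, [4, 5, 2, 3, 4, 1, 3, 2, 0], 0, wG)],
    IsWord chevE6 e.2.1 ∧ e.2.2.1 < 6 ∧ IsWord chevE6 e.2.2.2 ∧
      perm E6.cert e.2.1 (chevE6.simple e.2.2.1) = e.1 ∧
      ∀ s < 72, perm E6.cert e.2.2.2 s = perm E6.cert (e.2.1 ++ [e.2.2.1] ++ e.2.1.reverse) s := by
  simp only [IsWord]
  decide +kernel

theorem cTab_ok : cTab = (List.range 72).map fun r => (r, perm E6.cert cStar (e6Graph.root r)) := by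
  decide +kernel

theorem lam_twist : ∀ e ∈ cTab, fv lamX e.2 = 2 * fv lamX e.1 ∧ fv lamY e.2 = 2 * fv lamY e.1 := by
  decide +kernel

theorem lam_node : ∀ i < 6, ∀ r < 72, chevE6.cartan (e6Graph.node i) (e6Graph.root r) = chevE6.cartan i r := by
  decide +kernel

theorem lam_pair : fv lamX 56 ≠ 0 ∧ (∀ p q : Fin 5 × Fin 5, (∀ r ∈ [56, 46, 42, 39, 37, 36],
    fv (lamP p) r = fv (lamP q) r) → p = q) ∧ lamP (1, 0) = lamX ∧ lamP (0, 1) = lamY ∧ lamP 0 = 0 ∧
    ∀ p : Fin 5 × Fin 5, (5 : ZMod 15) • lamP p = 0 := by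
  decide +kernel

theorem wC_comm : ∀ b, ∀ s < 72,
    perm E6.cert (cStar ++ (wC b).map e6Graph.node ++ cStar.reverse) s = perm E6.cert (wC b) s := by
  decide +kernel

theorem wC_order : ∀ b, ∀ s < 72, (perm E6.cert (wC b))^[8] s = s := by decide +kernel

theorem wTab_ok : ∀ b, wTab b = (List.range 72).map fun s => (s, perm E6.cert (wC b) s) := by
  decide +kernel

theorem wC_vec : ∀ b, ∀ e ∈ wTab b, fv (lamP (imgP b (1, 0))) e.2 = fv lamX e.1 ∧
    fv (lamP (imgP b (0, 1))) e.2 = fv lamY e.1 := by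
  decide +kernel

theorem lamP_add : ∀ p q : Fin 5 × Fin 5, lamP (p + q) = lamP p + lamP q := by decide +kernel

theorem reachP_all : ∀ p : Fin 5 × Fin 5, p ≠ 0 → p ∈ reachP 8 := by decide +kernel

/-- Three times the first fundamental weight. -/
def wtV : List ℤ := [4, 3, 5, 6, 4, 2]

/-- The images of the fundamental roots fix the class of the first fundamental weight. -/
def latB (l : List ℕ) : Bool :=
  (List.range 6).all fun j =>
    ((List.range 6).map fun k => wtV.getD k 0 * coef chevE6 E6.cert j (l.getD k 0)).sum % 3 == wtV.getD j 0 % 3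

/-- The candidates for the images of the fundamental roots under an element fixing the vector. -/
def stabExt : ℕ → List (List ℕ)
  | 0 => [[]]
  | k + 1 => (stabExt k).flatMap fun pre => ((List.range 72).filter fun r =>
      fv lamX r == fv lamX (chevE6.simple k) && (List.range k).all fun j =>
        chevE6.pairing (pre.getD j 0) r == chevE6.pairing (chevE6.simple j) (chevE6.simple k)).map fun r => pre ++ [r]

theorem stab_ok : (stabExt 6).all (fun l => !latB l || levW.any fun L =>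
    l == (List.range 6).map fun i => perm E6.cert L (chevE6.simple i)) = true := by
  decide +kernel

theorem levW_facts : ∀ L ∈ levW,
    (∀ s < 72, perm E6.cert ([0] ++ L.map e6Graph.node ++ [0]) s = perm E6.cert L s) ∧
    ∀ r ∈ [61, 58, 57, 16], perm E6.cert L r ∈ [61, 58, 57, 16] := by
  decide +kernel

theorem levW_upper : ∀ L ∈ levW,
    (∀ i j : Fin 4, j < i → perm E6.cert L ([61, 58, 57, 16].getD j.val 0) ≠ [61, 58, 57, 16].getD i.val 0) →
      L = [] := by
  decide +kernel

theorem torus_rows :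
    (∀ i < 6, chevE6.cartan i 57 = chevE6.cartan i 56 + chevE6.cartan i 42 ∧
      chevE6.cartan i 15 = -chevE6.cartan i 56 ∧
      ((5 * (chevE6.cartan i 56 - chevE6.cartan i 42 + chevE6.cartan i 37 - chevE6.cartan i 36) : ℤ) : ZMod 15) = 0) ∧
    (perm E6.cert [0] (e6Graph.root 36) = 15 ∧ perm E6.cert [0] (e6Graph.root 37) = 42 + 15 ∧
      perm E6.cert [0] (e6Graph.root 42) = 37 ∧ perm E6.cert [0] (e6Graph.root 46) = 46 ∧
      perm E6.cert [0] (e6Graph.root 39) = 39 ∧ perm E6.cert [0] (e6Graph.root 56) = 36) ∧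
    ∀ a b : ZMod 15, -a = 4 * a → a + b = 4 * b → 5 * (a - b + 2 * b - 2 * a) = 0 →
      ∃ k : Fin 5, a = (k.val : ZMod 15) * fv lamX 56 ∧ b = (k.val : ZMod 15) * fv lamX 42 ∧
        2 * a = (k.val : ZMod 15) * fv lamX 36 ∧ 2 * b = (k.val : ZMod 15) * fv lamX 37 := by
  refine ⟨by decide +kernel, by decide +kernel, by decide +kernel⟩

theorem reflection_simple : perm E6.cert [] (chevE6.simple 3) = 39 ∧ ng chevE6 39 = 32 ∧ 39 ∈ allA ∧
    [46, 25, 69, 2, 47, 24, 70, 1].all (fun r => allA.contains r) = true := by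
  decide +kernel

end Cfsg.Agent.Lib.H59.E6Five
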