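import Cfsg.Agent.Lib.H59.E6Five.Data
import Cfsg.Agent.Lib.H59.Invol.Negated

/-!
An element of the Weyl group which fixes the exponents of the element of order five lies in the Weyl group of the
Levi part.
-/

set_option autoImplicit false
set_option maxRecDepth 8000

namespace Cfsg.Agent.Lib.H59.E6Five

open Cfsg.Lie Cfsg.Agent.Lib.Chev Cfsg.Agent.Lib.Twisted Cfsg.Agent.Lib.Twisted.Core
open Cfsg.Agent.Lib.H59.Homocyclic
open scoped Matrix

theorem wt_perm : ∀ {L : List ℕ}, IsWord chevE6 L → ∀ j < 6,
    (3 : ℤ) ∣ (∑ k ∈ Finset.range 6, wtV.getD k 0 * coef chevE6 E6.cert j (perm E6.cert L (chevE6.simple k))) -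
      wtV.getD j 0
  | [], _, j, hj => by
    have h : ∀ j < 6, (3 : ℤ) ∣ (∑ k ∈ Finset.range 6, wtV.getD k 0 *
        coef chevE6 E6.cert j (perm E6.cert [] (chevE6.simple k))) - wtV.getD j 0 := by decide +kernel
    exact h j hj
  | i :: L, hL, j, hj => by
    have hc := rootedE6.toChecked
    have hi : i < chevE6.rank := hL.cons.1
    have ih := wt_perm hL.cons.2
    by_cases hij : j = i
    · subst hij
      have hlt : ∀ k < 6, perm E6.cert L (chevE6.simple k) < chevE6.nroots := fun k hk =>
        hc.perm_lt hL.cons.2 (hc.simple_lt hk)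
      have e : ∀ k ∈ Finset.range 6, wtV.getD k 0 *
          coef chevE6 E6.cert j (perm E6.cert (j :: L) (chevE6.simple k)) =
          wtV.getD k 0 * coef chevE6 E6.cert j (perm E6.cert L (chevE6.simple k)) -
            ∑ l ∈ Finset.range 6, cm E6.cert j l *
              (wtV.getD k 0 * coef chevE6 E6.cert l (perm E6.cert L (chevE6.simple k))) := by
        intro k hk
        have hk' := Finset.mem_range.1 hk
        rw [perm_cons, hc.coef_refl hi hi (hlt k hk'), if_pos rfl, mul_sub, hc.cartan_eq hi (hlt k hk'), zsum_eq,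
          Finset.mul_sum]
        congr 1
        exact Finset.sum_congr rfl fun l _ => by ring
      rw [Finset.sum_congr rfl e, Finset.sum_sub_distrib, Finset.sum_comm]
      simp only [← Finset.mul_sum]
      have h3 : ∀ j < 6, (3 : ℤ) ∣ ∑ l ∈ Finset.range 6, cm E6.cert j l * wtV.getD l 0 := by decide +kernel
      have h4 : (3 : ℤ) ∣ (∑ l ∈ Finset.range 6, cm E6.cert j l *
          (∑ k ∈ Finset.range 6, wtV.getD k 0 * coef chevE6 E6.cert l (perm E6.cert L (chevE6.simple k)))) -
          ∑ l ∈ Finset.range 6, cm E6.cert j l * wtV.getD l 0 := by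
        rw [← Finset.sum_sub_distrib]
        refine Finset.dvd_sum fun l hl => ?_
        rw [← mul_sub]
        exact (ih l (Finset.mem_range.1 hl)).mul_left _
      have := dvd_sub (ih j hj) (dvd_add h4 (h3 j hj))
      convert this using 1
      all_goals first | rfl | ring
    · have e : ∀ k ∈ Finset.range 6, wtV.getD k 0 *
          coef chevE6 E6.cert j (perm E6.cert (i :: L) (chevE6.simple k)) =
          wtV.getD k 0 * coef chevE6 E6.cert j (perm E6.cert L (chevE6.simple k)) := by
        intro k hk
        rw [perm_cons, hc.coef_refl hi (show j < chevE6.rank from hj)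
          (hc.perm_lt hL.cons.2 (hc.simple_lt (Finset.mem_range.1 hk)))]
        simp [Ne.symm hij, hij]
      rw [Finset.sum_congr rfl e]
      exact ih j hj

theorem pairing_perm : ∀ {L : List ℕ}, IsWord chevE6 L → ∀ r s, r < chevE6.nroots → s < chevE6.nroots →
    chevE6.pairing (perm E6.cert L r) (perm E6.cert L s) = chevE6.pairing r s
  | [], _, _, _, _, _ => rfl
  | i :: L, hL, r, s, hr, hs => by
    rw [perm_cons, perm_cons, rootedE6.toChecked.pairing_refl hL.cons.1 (rootedE6.toChecked.perm_lt hL.cons.2 hr)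
      (rootedE6.toChecked.perm_lt hL.cons.2 hs), pairing_perm hL.cons.2 r s hr hs]

/-- The images of the first `k` fundamental roots. -/
def imgs (L : List ℕ) (k : ℕ) : List ℕ := (List.range k).map fun i => perm E6.cert L (chevE6.simple i)

theorem getD_imgs (L : List ℕ) {k j : ℕ} (hj : j < k) :
    (imgs L k).getD j 0 = perm E6.cert L (chevE6.simple j) := by
  simp [imgs, List.getD_eq_getElem?_getD, hj]

theorem mem_stabExt {L : List ℕ} (hL : IsWord chevE6 L) (hf : ∀ s < 72, fv lamX (perm E6.cert L s) = fv lamX s) :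
    ∀ k ≤ 6, imgs L k ∈ stabExt k
  | 0, _ => by simp [imgs, stabExt]
  | k + 1, hk => by
    have hc := rootedE6.toChecked
    have hks : chevE6.simple k < chevE6.nroots := hc.simple_lt (show k < chevE6.rank by rw [rank6]; omega)
    simp only [stabExt, List.mem_flatMap, List.mem_map, List.mem_filter, List.mem_range, Bool.and_eq_true, beq_iff_eq,
      List.all_eq_true]
    refine ⟨imgs L k, mem_stabExt hL hf k (by omega), perm E6.cert L (chevE6.simple k),
      ⟨hc.perm_lt hL hks, hf _ hks, fun j hj => ?_⟩, ?_⟩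
    · rw [getD_imgs L hj, pairing_perm hL _ _ (hc.simple_lt (show j < chevE6.rank by rw [rank6]; omega)) hks]
    · simp [imgs, List.range_succ]

theorem perm_ext_simple {L L' : List ℕ} (hL : IsWord chevE6 L) (hL' : IsWord chevE6 L')
    (e : ∀ i < 6, perm E6.cert L (chevE6.simple i) = perm E6.cert L' (chevE6.simple i)) :
    ∀ r < chevE6.nroots, perm E6.cert L r = perm E6.cert L' r := by
  intro r hr
  have hc := rootedE6.toChecked
  refine Invol.root_ext hc (hc.perm_lt hL hr) (hc.perm_lt hL' hr) fun j hj => ?_
  rw [hc.coef_perm hj hL hr, hc.coef_perm hj hL' hr]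
  exact Finset.sum_congr rfl fun l hl => by rw [e l (Finset.mem_range.1 hl)]

/-- The stabilizer of the exponents. -/
theorem exists_levW {L : List ℕ} (hL : IsWord chevE6 L)
    (hf : ∀ s < 72, fv lamX (perm E6.cert L s) = fv lamX s) :
    ∃ L' ∈ levW, ∀ r < chevE6.nroots, perm E6.cert L r = perm E6.cert L' r := by
  have hlat : latB (imgs L 6) = true := by
    simp only [latB, List.all_eq_true, List.mem_range, beq_iff_eq]
    intro j hj
    refine Int.emod_eq_emod_iff_emod_sub_eq_zero.2 (Int.emod_eq_zero_of_dvd ?_)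
    convert wt_perm hL j hj using 2
    rw [show (List.range 6) = [0, 1, 2, 3, 4, 5] from rfl]
    simp only [List.map_cons, List.map_nil, List.sum_cons, List.sum_nil, Finset.sum_range_succ,
      Finset.sum_range_zero]
    rw [getD_imgs L (show 0 < 6 by norm_num), getD_imgs L (show 1 < 6 by norm_num), getD_imgs L (show 2 < 6 by norm_num),
      getD_imgs L (show 3 < 6 by norm_num), getD_imgs L (show 4 < 6 by norm_num), getD_imgs L (show 5 < 6 by norm_num)]
    ring
  have h := List.all_eq_true.1 stab_ok _ (mem_stabExt hL hf 6 le_rfl)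
  rw [hlat] at h
  simp only [Bool.not_true, Bool.false_or, List.any_eq_true, beq_iff_eq] at h
  obtain ⟨L', hL', e⟩ := h
  refine ⟨L', hL', perm_ext_simple hL (isWord_lists.2.2.2 L' hL') fun i hi => ?_⟩
  have e' := congrArg (fun l : List ℕ => l.getD i 0) e
  rw [getD_imgs L hi, show (List.range 6).map (fun i => perm E6.cert L' (chevE6.simple i)) = imgs L' 6 from rfl,
    getD_imgs L' hi] at e'
  exact e'

end Cfsg.Agent.Lib.H59.E6Five
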