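import Cfsg.Agent.Lib.H59.E6Five.Torus
import Cfsg.Agent.Lib.H59.E6Five.Stabilizer

/-!
The elements of `E₆(16)` which commute with the first torus element and are fixed by its twist: a torus element times
an element of the group generated by the root elements `x_r(1)` of the Levi part.
-/

set_option autoImplicit false
set_option maxRecDepth 8000

namespace Cfsg.Agent.Lib.H59.E6Five

open Cfsg.Lie Cfsg.Agent.Lib.Chev Cfsg.Agent.Lib.Twisted Cfsg.Agent.Lib.Twisted.Core
open Cfsg.Agent.Lib.ChevField Cfsg.Agent.Lib.H59.Homocyclic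
open Cfsg.Agent.Lib.ChevCent (xg xg_zero word word_mem word_filter word_injective coe_word word_cons word_nil evenTerms)
open scoped Matrix

/-- The group generated by the root elements of the Levi part over the prime field. -/
def hGrp (F : Type*) [Field F] : Subgroup (GL chevE6.Idx F) :=
  Subgroup.closure {g | ∃ r ∈ allA, g = X r 1}

/-- Its positive unipotent part. -/
def uGrpA (F : Type*) [Field F] : Subgroup (GL chevE6.Idx F) :=
  Subgroup.closure {g | ∃ r ∈ posA, g = X r 1}

variable {F : Type*} [Field F]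

theorem uGrpA_le : uGrpA F ≤ hGrp F := by
  refine Subgroup.closure_mono ?_
  rintro g ⟨r, hr, rfl⟩
  exact ⟨r, (posA_facts.1 r hr).1, rfl⟩

theorem uGrpA_le_pos : uGrpA F ≤ rootGen chevE6 F {r | r ∈ posA} := by
  rw [uGrpA, Subgroup.closure_le]
  rintro g ⟨r, hr, rfl⟩
  exact Cfsg.Agent.Lib.ChevCent.xg_mem_rootGen hE hr 1

theorem hGrp_le_group : hGrp F ≤ chevE6.group F := by
  rw [hGrp, Subgroup.closure_le]
  rintro g ⟨r, -, rfl⟩
  exact X_mem r 1

theorem mem_hGrp {r : ℕ} (hr : r ∈ allA) : X r (1 : F) ∈ hGrp F := Subgroup.subset_closure ⟨r, hr, rfl⟩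

variable [CharP F 2]

theorem rootWeyl_mem {r : ℕ} (hr : r ∈ allA) : rootWeyl hE F r ∈ hGrp F :=
  mul_mem (mul_mem (mem_hGrp hr) (mem_hGrp (allA_facts r hr).2.2.2.2.2.1)) (mem_hGrp hr)

theorem levW_mem {L : List ℕ} (hL : L ∈ levW) : nProd hE F L ∈ hGrp F := by
  have hmem : ∀ r ∈ [25, 2], r ∈ allA := by decide
  have h1 : nProd hE F [1] ∈ hGrp F := by
    rw [← rootWeyl_word (F := F) (r := 25) (K := [1]) (i := 1) (L := [1]) (by simp)]
    exact rootWeyl_mem (hmem 25 (by simp))
  have hg : nProd hE F wG ∈ hGrp F := by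
    rw [← rootWeyl_word (F := F) (r := 2) (K := [4, 5, 2, 3, 4, 1, 3, 2, 0]) (i := 0) (L := wG) (by simp)]
    exact rootWeyl_mem (hmem 2 (by simp))
  have h3 : nProd hE F [3] ∈ hGrp F := by
    obtain ⟨e, -, h, -⟩ := reflection_simple
    rw [← rootWeyl_eq' rootedE6 (K := []) (by simp [IsWord]) (i := 3) (show 3 < chevE6.rank by decide)
      (L := [3]) (by simp [IsWord, rank6]) e (fun s _ => rfl)]
    exact rootWeyl_mem h
  have hsing : ∀ i, i = 1 ∨ i = 3 → nS hE F i ∈ hGrp F := by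
    rintro i (rfl | rfl)
    · simpa [nProd] using h1
    · simpa [nProd] using h3
  have hsmall : ∀ L : List ℕ, (∀ i ∈ L, i = 1 ∨ i = 3) → nProd hE F L ∈ hGrp F := fun L hL =>
    list_prod_mem fun x hx => by
      obtain ⟨i, hi, rfl⟩ := List.mem_map.1 hx
      exact hsing i (hL i hi)
  have ha : ∀ l ∈ [[], [3], [1], [1, 3], [3, 1], [1, 3, 1]], ∀ i ∈ l, i = 1 ∨ i = 3 := by decide
  simp only [levW, List.mem_append, List.mem_map] at hL
  rcases hL with ((hL | ⟨l, hl, rfl⟩) | ⟨l, hl, rfl⟩) | ⟨l, hl, rfl⟩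
  · exact hsmall L (ha L hL)
  · rw [nProd_append]; exact mul_mem hg (hsmall l (ha l hl))
  · rw [nProd_append, nProd_append]; exact mul_mem (mul_mem h3 hg) (hsmall l (ha l hl))
  · rw [nProd_append, nProd_append]; exact mul_mem (mul_mem (hsmall [1, 3] (by simp)) hg) (hsmall l (ha l hl))

variable (z : Multiplicative (ZMod 15) →* Fˣ)

theorem commute_torE_X {r : ℕ} (hr : r ∈ allA) (t : F) : Commute (torE z lamX) (X r t) := by
  obtain ⟨hr72, -, -, -, h0, -⟩ := allA_facts r hr
  refine mul_inv_eq_iff_eq_mul.1 ?_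
  rw [torE]
  have e := tor_conj_xg (z := z) hE (f := iota chevE6 (ZMod 15) lamX) ⟨lamX, rfl⟩ ⟨r, hr72⟩ t
  rw [← fv_eq lamX hr72, h0, ofAdd_zero, map_one, Units.val_one, one_mul] at e
  exact e

theorem commute_torE_hGrp {g : GL chevE6.Idx F} (hg : g ∈ hGrp F) : Commute (torE z lamX) g := by
  induction hg using Subgroup.closure_induction with
  | mem x hx => obtain ⟨r, hr, rfl⟩ := hx; exact commute_torE_X z hr 1
  | one => exact Commute.one_right _
  | mul a b _ _ iha ihb => exact iha.mul_right ihb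
  | inv a _ iha => exact iha.inv_right

theorem commute_gA_hGrp (a : F) {g : GL chevE6.Idx F} (hg : g ∈ hGrp F) : Commute (gA a) g := by
  have key : ∀ r ∈ allA, ∀ s ∈ [56, 15, 36, 35], ∀ t : F, Commute (X s t) (X r (1 : F)) := fun r hr s hs t => by
    obtain ⟨hr72, -, -, -, -, -, h⟩ := allA_facts r hr
    obtain ⟨h1, h2⟩ := h s hs
    have hs72 : s < 72 := (by decide : ∀ s ∈ [56, 15, 36, 35], s < 72) s hs
    exact (commute_X hr72 hs72 h1 h2 1 t).symm
  induction hg using Subgroup.closure_induction with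
  | mem x hx =>
    obtain ⟨r, hr, rfl⟩ := hx
    exact ((key r hr 56 (by simp) a).mul_left (key r hr 15 (by simp) 1)).mul_left
      ((key r hr 36 (by simp) _).mul_left (key r hr 35 (by simp) 1))
  | one => exact Commute.one_right _
  | mul x y _ _ ihx ihy => exact ihx.mul_right ihy
  | inv x _ ihx => exact ihx.inv_right

theorem commute_gBC_torE (a b : F) : Commute (torE z lamX) (gB b * gC a) := by
  have h : ∀ r ∈ [46, 25, 69, 2, 47, 24, 70, 1], r ∈ allA := by decide
  exact (((commute_torE_X z (h 46 (by simp)) b).mul_right (commute_torE_X z (h 25 (by simp)) 1)).mul_right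
      ((commute_torE_X z (h 69 (by simp)) b).mul_right (commute_torE_X z (h 2 (by simp)) 1))).mul_right
    (((commute_torE_X z (h 47 (by simp)) a).mul_right (commute_torE_X z (h 24 (by simp)) 1)).mul_right
      ((commute_torE_X z (h 70 (by simp)) _).mul_right (commute_torE_X z (h 1 (by simp)) 1)))

variable (φ : F ≃+* F) (hφ : ∀ t, φ t = t ^ 2)

include hφ in
theorem sig_hGrp {g : GL chevE6.Idx F} (hg : g ∈ hGrp F) : sig φ g = g := by
  induction hg using Subgroup.closure_induction with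
  | mem x hx =>
    obtain ⟨r, hr, rfl⟩ := hx
    rw [sig_X φ hφ (allA_facts r hr).1, (allA_facts r hr).2.1, one_pow]
  | one => exact (e6Twist φ).sig_one
  | mul x y hx hy ihx ihy => rw [sig_mul φ (hGrp_le_group hx) (hGrp_le_group hy), ihx, ihy]
  | inv x hx ihx => rw [show sig φ x⁻¹ = (sig φ x)⁻¹ from (e6Twist φ).sig_inv (hGrp_le_group hx), ihx]

theorem glMap_hGrp {F' : Type*} [Field F'] (f : F →+* F') : (hGrp F).map (glMap chevE6 f) = hGrp F' := by
  rw [hGrp, hGrp, MonoidHom.map_closure]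
  congr 1
  ext g
  constructor
  · rintro ⟨x, ⟨r, hr, rfl⟩, rfl⟩
    refine ⟨r, hr, ?_⟩
    rw [X_eq (show r < chevE6.nroots from (allA_facts r hr).1), glMap_xGL, map_one,
      X_eq (show r < chevE6.nroots from (allA_facts r hr).1)]
  · rintro ⟨r, hr, rfl⟩
    refine ⟨X r 1, ⟨r, hr, rfl⟩, ?_⟩
    rw [X_eq (show r < chevE6.nroots from (allA_facts r hr).1), glMap_xGL, map_one,
      X_eq (show r < chevE6.nroots from (allA_facts r hr).1)]

theorem glMap_uGrpA {F' : Type*} [Field F'] (f : F →+* F') : (uGrpA F).map (glMap chevE6 f) = uGrpA F' := by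
  have hlt : ∀ r ∈ posA, r < chevE6.nroots := fun r hr => (allA_facts r (posA_facts.1 r hr).1).1
  rw [uGrpA, uGrpA, MonoidHom.map_closure]
  congr 1
  ext g
  constructor
  · rintro ⟨x, ⟨r, hr, rfl⟩, rfl⟩
    exact ⟨r, hr, by rw [X_eq (hlt r hr), glMap_xGL, map_one, X_eq (hlt r hr)]⟩
  · rintro ⟨r, hr, rfl⟩
    exact ⟨X r 1, ⟨r, hr, rfl⟩, by rw [X_eq (hlt r hr), glMap_xGL, map_one, X_eq (hlt r hr)]⟩

/-! ### Unipotent factors -/

omit [CharP F 2] in
theorem coord_zero (hz : Function.Injective z) {L : List ℕ} (hs : L.Pairwise (· < ·))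
    (hpos : ∀ r ∈ L, r ∈ posSet chevE6) {co : ℕ → F} (hc : Commute (torE z lamX) (word hE L co)) :
    ∀ r ∈ L, r ∉ posA → co r = 0 := by
  intro r hr hrA
  by_contra h0
  have e : word hE L (fun r => (zval z (iota chevE6 (ZMod 15) lamX) r : F) * co r) = word hE L co := by
    rw [← tor_conj_word hE ⟨lamX, rfl⟩ _ (fun r hr => (hpos r hr).2) co]
    exact mul_inv_eq_iff_eq_mul.2 hc
  have e2 := (word_injective rootedE6 hs hpos e r hr)
  have e3 : (zval z (iota chevE6 (ZMod 15) lamX) r : F) = 1 := (mul_eq_right₀ h0).1 e2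
  have hr72 : r < 72 := (hpos r hr).2
  rw [zval, dif_pos (hpos r hr).2] at e3
  have e4 : fv lamX r = 0 := hz ((Units.ext e3 : z (Multiplicative.ofAdd (iota chevE6 (ZMod 15) lamX ⟨r, hr72⟩)) = 1).trans
    (map_one z).symm)
  exact hrA (posA_facts.2.1 r (fv_zero r hr72 e4) (hpos r hr).1)

include hφ in
theorem SL_word : ∀ {L : List ℕ} {co : ℕ → F}, (∀ r ∈ L, r < chevE6.nroots) → (∀ r ∈ L, r ∉ posA → co r = 0) →
    SL φ [0] (word hE L co) = word hE L (fun r => co r ^ 2)
  | [], _, _, _ => by simp [word_nil, SL, sig, (e6Twist φ).sig_one]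
  | r :: L, co, hlt, h0 => by
    have hmem : word hE L co ∈ chevE6.group F :=
      rootGen_le_group (S := {r | r < chevE6.nroots}) (fun r hr => hr)
        (word_mem hE (fun s hs => hlt s (List.mem_cons_of_mem _ hs)) co)
    rw [word_cons, word_cons, SL_mul φ _ (X_mem _ _) hmem,
      SL_word (fun s hs => hlt s (List.mem_cons_of_mem _ hs)) (fun s hs => h0 s (List.mem_cons_of_mem _ hs))]
    congr 1
    by_cases hr : r ∈ posA
    · obtain ⟨hr72, e1, -, e2, -⟩ := allA_facts r (posA_facts.1 r hr).1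
      rw [SL_X φ hφ (isWord6 (by simp)) hr72, e1, e2]
    · rw [h0 r List.mem_cons_self hr, zero_pow two_ne_zero]
      simp [SL, sig, X, xg_zero, (e6Twist φ).sig_one]

omit [CharP F 2] in
theorem word_mem_uGrpA {L : List ℕ} {co : ℕ → F} (h0 : ∀ r ∈ L, r ∉ posA → co r = 0)
    (h1 : ∀ r ∈ L, co r ^ 2 = co r) : word hE L co ∈ uGrpA F := by
  refine list_prod_mem fun x hx => ?_
  obtain ⟨r, hr, rfl⟩ := List.mem_map.1 hx
  rcases eq_or_ne (co r) 0 with h | h
  · rw [h, xg_zero]; exact one_mem _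
  · have : co r = 1 := by
      have := h1 r hr
      rw [sq] at this
      exact (mul_eq_right₀ h).1 this
    rw [this]
    exact Subgroup.subset_closure ⟨r, by_contra fun hn => h (h0 r hr hn), rfl⟩

include hφ in
theorem unip_piece (hz : Function.Injective z) {L : List ℕ} (hs : L.Pairwise (· < ·))
    (hpos : ∀ r ∈ L, r ∈ posSet chevE6) {co : ℕ → F} (hc : Commute (torE z lamX) (word hE L co)) :
    SL φ [0] (word hE L co) = word hE L (fun r => co r ^ 2) ∧
      (SL φ [0] (word hE L co) = word hE L co → word hE L co ∈ uGrpA F) := by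
  have h0 := coord_zero z hz hs hpos hc
  have e := SL_word φ hφ (fun r hr => (hpos r hr).2) h0
  exact ⟨e, fun h => word_mem_uGrpA h0 (word_injective rootedE6 hs hpos (e.symm.trans h))⟩

/-! ### The torus factor -/

theorem iota_expand (lam : Fin chevE6.rank → ZMod 15) (s : Fin chevE6.nroots) :
    iota chevE6 (ZMod 15) lam s =
      ∑ l ∈ Finset.range chevE6.rank, (coef chevE6 E6.cert l s.val : ZMod 15) * fv lam (chevE6.simple l) := by
  simp only [iota_apply, fv, Finset.mul_sum]
  rw [Finset.sum_comm]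
  refine Finset.sum_congr rfl fun i _ => ?_
  rw [hE.cartan_eq i.2 s.2, zsum_eq]
  push_cast
  rw [Finset.sum_mul]
  exact Finset.sum_congr rfl fun l hl => by
    rw [hE.cm_eq (Finset.mem_range.1 hl) i.2]; ring

include hφ in
theorem torus_piece (hz : Function.Injective z) (hsurj : Function.Surjective z) {t : GL chevE6.Idx F}
    (ht : t ∈ chevE6.diagonalSubgroup F) (he : SL φ [0] t = t) : ∃ k : Fin 5, t = torE z (lamP (k, 0)) := by
  rw [rootedE6.diagonalSubgroup_eq] at ht
  obtain ⟨c, rfl⟩ := ht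
  choose lam hlam using fun i : Fin chevE6.rank => hsurj (c i.val)
  set lam' : Fin chevE6.rank → ZMod 15 := fun i => (lam i).toAdd with hlam'
  have et : torusHom chevE6 F c = torE z lam' := by
    rw [torE, tor_iota]
    exact Twist.torusHom_congr fun i hi => by rw [zcoord, dif_pos hi, hlam', ofAdd_toAdd, hlam]
  rw [et] at he ⊢
  have hW : IsWord chevE6 [0] := isWord6 (by simp)
  have key : act (wperm hE [0]) (iota chevE6 (ZMod 15) (twLam lam')) = iota chevE6 (ZMod 15) lam' := by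
    rw [SL, sig_torE φ hφ, torE, nProd_conj_tor hE hW, mul_inv_cancel_right, torE] at he
    exact Multiplicative.ofAdd.injective (tor_injective hz he)
  have at_root : ∀ r : ℕ, r < 72 → fv lam' (perm E6.cert [0] (e6Graph.root r)) = 2 * fv lam' r := by
    intro r hr
    have hrr : e6Graph.root r < chevE6.nroots := (root_facts r hr).1
    have e := congrFun key (wperm hE [0] ⟨e6Graph.root r, hrr⟩)
    rw [act_apply, Equiv.Perm.inv_def, Equiv.symm_apply_apply, iota_twLam lam' hr] at e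
    rw [fv_eq lam' (hE.perm_lt hW hrr), fv_eq lam' hr]
    exact (congrArg (iota chevE6 (ZMod 15) lam') (Fin.ext (hE.wperm_val hW ⟨_, hrr⟩).symm)).trans e.symm
  obtain ⟨hrows, ⟨p36, p37, p42, p46, p39, p56⟩, hsolve⟩ := torus_rows
  set u := fv lam' 56 with hu
  set v := fv lam' 42 with hv
  have e56 : fv lam' 36 = 2 * u := by rw [← p56]; exact at_root 56 (by norm_num)
  have e42 : fv lam' 37 = 2 * v := by rw [← p42]; exact at_root 42 (by norm_num)
  have e57 : fv lam' 57 = u + v := by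
    simp only [hu, hv, fv, ← Finset.sum_add_distrib]
    exact Finset.sum_congr rfl fun i _ => by rw [(hrows i.val i.2).1]; push_cast; ring
  have e15 : fv lam' 15 = -u := by
    simp only [hu, fv, ← Finset.sum_neg_distrib]
    exact Finset.sum_congr rfl fun i _ => by rw [(hrows i.val i.2).2.1]; push_cast; ring
  have h1 : -u = 4 * u := by
    have e := at_root 36 (by norm_num)
    rw [p36, e15] at e
    linear_combination e + 2 * e56
  have h2 : u + v = 4 * v := by
    have e := at_root 37 (by norm_num)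
    rw [p37, show (42 + 15 : ℕ) = 57 from rfl, e57] at e
    linear_combination e + 2 * e42
  have h3 : 5 * (u - v + 2 * v - 2 * u) = 0 := by
    rw [← e42, ← e56, hu, hv]
    simp only [fv, ← Finset.sum_sub_distrib, ← Finset.sum_add_distrib, Finset.mul_sum]
    refine Finset.sum_eq_zero fun i _ => ?_
    have := (hrows i.val i.2).2.2
    push_cast at this
    linear_combination lam' i * this
  obtain ⟨k, k56, k42, k36, k37⟩ := hsolve u v h1 h2 h3
  refine ⟨k, ?_⟩
  have h46 : fv lam' 46 = 0 := by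
    have e := at_root 46 (by norm_num); rw [p46] at e
    linear_combination -e
  have h39 : fv lam' 39 = 0 := by
    have e := at_root 39 (by norm_num); rw [p39] at e
    linear_combination -e
  have hk0 : ∀ r, fv (lamP (k, 0)) r = (k.val : ZMod 15) * fv lamX r := fun r => by rw [fv_lamP]; simp
  have hz0 : fv lamX 46 = 0 ∧ fv lamX 39 = 0 := by decide +kernel
  have hsimp : ∀ l < 6, fv lam' (chevE6.simple l) = fv (lamP (k, 0)) (chevE6.simple l) := by
    intro l hl
    rw [hk0]
    interval_cases l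
    · exact k56
    · rw [show chevE6.simple 1 = 46 from rfl, h46, hz0.1, mul_zero]
    · exact k42
    · rw [show chevE6.simple 3 = 39 from rfl, h39, hz0.2, mul_zero]
    · rw [show chevE6.simple 4 = 37 from rfl, e42, k37]
    · rw [show chevE6.simple 5 = 36 from rfl, e56, k36]
  rw [torE, torE]
  congr 2
  funext s
  rw [iota_expand, iota_expand]
  exact Finset.sum_congr rfl fun l hl => by rw [hsimp l (Finset.mem_range.1 hl)]

/-! ### The Bruhat form -/

include hφ in
theorem cent_form (hz : Function.Injective z) (hsurj : Function.Surjective z) {y : GL chevE6.Idx F}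
    (hy : y ∈ chevE6.group F) (hc : Commute (torE z lamX) y) (hs : SL φ [0] y = y) :
    ∃ (k : Fin 5) (L : List ℕ) (u₁ u : GL chevE6.Idx F), L ∈ levW ∧ u₁ ∈ uGrpA F ∧ u ∈ uGrpA F ∧
      y = torE z (lamP (k, 0)) * (u₁ * nProd hE F L * u) := by
  have hh := rootedE6
  obtain ⟨L, hL, bo, hbo, u, hu, rfl⟩ := hh.exists_canonical hy
  obtain ⟨u₁, hu₁, t₁, ht₁, rfl⟩ := hh.mem_borel_iff.1 hbo
  set h := torE z lamX with hh'
  set n := nProd hE F L with hn
  set tw := tor z (Multiplicative.ofAdd (act (wperm hE L) (iota chevE6 (ZMod 15) lamX))) with htwdef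
  have hh_diag := torE_mem_diag z lamX
  have htw : tw ∈ chevE6.diagonalSubgroup F :=
    tor_mem hE hh (act_mem hE (hE.mem_weyl_of_word hL) ⟨lamX, rfl⟩)
  have hnt : n * h = tw * n := nProd_conj_tor hE hL _
  have hu' : h⁻¹ * u * h ∈ rootGen chevE6 F (invSet chevE6 E6.cert L) := by
    have := (Subgroup.mem_normalizer_iff.1 (inv_mem (hh.diagonal_le_normalizer
      (S := invSet chevE6 E6.cert L) hE.invSet_lt hh_diag)) u).1 hu
    simpa using this
  have e' : u₁ * t₁ * tw * n * (h⁻¹ * u * h) = h * (u₁ * t₁) * n * u := by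
    calc u₁ * t₁ * tw * n * (h⁻¹ * u * h) = u₁ * t₁ * (tw * n) * h⁻¹ * u * h := by group
      _ = u₁ * t₁ * (n * h) * h⁻¹ * u * h := by rw [hnt]
      _ = (u₁ * t₁ * n * u) * h := by group
      _ = h * (u₁ * t₁ * n * u) := hc.eq.symm
      _ = _ := by group
  obtain ⟨eb, eu⟩ := hh.canonical_unique hL (mul_mem hbo (Subgroup.mem_sup_right htw))
    (mul_mem (Subgroup.mem_sup_right hh_diag) hbo) hu' hu e'
  have hu1' : h * u₁ * h⁻¹ ∈ chevE6.posUnipotent F :=
    (Subgroup.mem_normalizer_iff.1 (hh.diagonal_le_normalizer_posUnipotent hh_diag) u₁).1 hu₁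
  have e1 : (h * u₁ * h⁻¹)⁻¹ * u₁ = h * t₁ * (t₁ * tw)⁻¹ := by
    calc (h * u₁ * h⁻¹)⁻¹ * u₁ = h * u₁⁻¹ * h⁻¹ * (u₁ * t₁ * tw) * (t₁ * tw)⁻¹ := by group
      _ = _ := by rw [eb, ← hh']; group
  have e2 : (h * u₁ * h⁻¹)⁻¹ * u₁ = 1 := by
    refine Subgroup.mem_bot.1 (hh.posUnipotent_inf_diagonal.le
      (Subgroup.mem_inf.2 ⟨mul_mem (inv_mem hu1') hu₁, ?_⟩))
    rw [e1]
    exact mul_mem (mul_mem hh_diag ht₁) (inv_mem (mul_mem ht₁ htw))
  have e3 : h = tw := by
    rw [e2, eq_comm, mul_inv_eq_one, hh.diagonal_commute ht₁ htw] at e1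
    exact mul_right_cancel e1
  have hact : act (wperm hE L) (iota chevE6 (ZMod 15) lamX) = iota chevE6 (ZMod 15) lamX := by
    rw [hh', torE, htwdef] at e3
    exact (Multiplicative.ofAdd.injective (tor_injective hz e3)).symm
  have hfv : ∀ s < 72, fv lamX (perm E6.cert L s) = fv lamX s := by
    intro s hs
    have e := congrFun hact (wperm hE L ⟨s, hs⟩)
    rw [act_apply, Equiv.Perm.inv_def, Equiv.symm_apply_apply] at e
    rw [fv_eq lamX (hE.perm_lt hL hs), fv_eq lamX hs]
    exact (congrArg (iota chevE6 (ZMod 15) lamX) (Fin.ext (hE.wperm_val hL ⟨s, hs⟩).symm)).trans e.symm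
  obtain ⟨L', hL', eperm⟩ := exists_levW hL hfv
  have hL'w := isWord_lists.2.2.2 L' hL'
  have en : n = nProd hE F L' := nProd_congr hh hL hL'w eperm
  have hcu : Commute h u := (commute_iff_eq _ _).2 (by
    calc h * u = h * (h⁻¹ * u * h) := by rw [eu]
      _ = u * h := by group)
  have hcu1 : Commute h u₁ := (commute_iff_eq _ _).2 (mul_inv_eq_iff_eq_mul.1 (inv_mul_eq_one.1 e2))
  classical
  set Li := chevE6.posRoots.filter (fun r => decide (r ∈ invSet chevE6 E6.cert L)) with hLi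
  have hLimem : ∀ r, r ∈ Li ↔ r ∈ invSet chevE6 E6.cert L := fun r => by
    rw [hLi, List.mem_filter, hE.mem_posRoots, decide_eq_true_iff]
    exact ⟨fun a => a.2, fun a => ⟨hE.invSet_subset L a, a⟩⟩
  have hLis : Li.Pairwise (· < ·) := List.Pairwise.filter _ hE.posRoots_pairwise
  have hLipos : ∀ r ∈ Li, r ∈ posSet chevE6 := fun r hr => hE.invSet_subset L ((hLimem r).1 hr)
  have hset : ({r | r ∈ Li} : Set ℕ) = invSet chevE6 E6.cert L := Set.ext hLimem
  obtain ⟨co, -, eco⟩ := hE.exists_prod Li hLis hLipos (hset ▸ hE.closedSet_invSet hL) u (hset.symm ▸ hu)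
  have euw : u = word hE Li co := Units.ext (by rw [eco, coe_word])
  obtain ⟨co1, eu1⟩ := Cfsg.Agent.Lib.ChevCent.exists_word_of_mem_pos hh hu₁
  have hP : ∀ r ∈ chevE6.posRoots, r ∈ posSet chevE6 := fun r hr => hE.mem_posRoots.1 hr
  obtain ⟨es, hsu⟩ := unip_piece z φ hφ hz hLis hLipos (co := co) (euw ▸ hcu)
  obtain ⟨es1, hsu1⟩ := unip_piece z φ hφ hz hE.posRoots_pairwise hP (co := co1) (eu1 ▸ hcu1)
  rw [← euw] at es hsu
  rw [← eu1] at es1 hsu1
  have hS0n : SL φ [0] n = n := by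
    rw [en, SL, show sig φ (nProd hE F L') = nProd hE F (L'.map e6Graph.node) from (e6Twist φ).sig_nProd hL'w,
      ← nProd_reverse hh (isWord6 (L := [0]) (by simp)), ← nProd_append, ← nProd_append]
    exact nProd_congr hh (((isWord6 (L := [0]) (by simp)).append (node_word6 hL'w)).append (isWord6 (by simp))) hL'w
      fun s hs => (levW_facts L' hL').1 s hs
  have hGu1 : u₁ ∈ chevE6.group F := hE.posUnipotent_le_group hu₁
  have hGt : t₁ ∈ chevE6.group F := hh.diagonal_le_group ht₁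
  have hGn : n ∈ chevE6.group F := nProd_mem hL
  have hGu : u ∈ chevE6.group F :=
    hE.posUnipotent_le_group (by rw [hE.posUnipotent_eq]; exact rootGen_mono (hE.invSet_subset L) hu)
  rw [SL_mul φ _ (mul_mem (mul_mem hGu1 hGt) hGn) hGu, SL_mul φ _ (mul_mem hGu1 hGt) hGn, SL_mul φ _ hGu1 hGt,
    hS0n] at hs
  have hSt : SL φ [0] t₁ ∈ chevE6.diagonalSubgroup F :=
    (Subgroup.mem_normalizer_iff.1 (hh.diagonal_normal_monomial (hh.nProd_mem_monomial (isWord6 (L := [0]) (by simp))))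
      _).1 ((e6Twist φ).sig_diag ht₁)
  have hSu1 : SL φ [0] u₁ ∈ chevE6.posUnipotent F := by
    rw [es1, hE.posUnipotent_eq]
    exact word_mem hE hP _
  have hSu : SL φ [0] u ∈ rootGen chevE6 F (invSet chevE6 E6.cert L) := by
    rw [es]
    exact word_mem hE (fun r hr => (hLimem r).1 hr) _
  obtain ⟨eb', eu'⟩ := hh.canonical_unique hL
    (mul_mem (Subgroup.mem_sup_left hSu1) (Subgroup.mem_sup_right hSt)) hbo hSu hu hs
  have e4 : u₁⁻¹ * SL φ [0] u₁ = 1 := by
    refine Subgroup.mem_bot.1 (hh.posUnipotent_inf_diagonal.le (Subgroup.mem_inf.2 ⟨mul_mem (inv_mem hu₁) hSu1, ?_⟩))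
    rw [show u₁⁻¹ * SL φ [0] u₁ = u₁⁻¹ * (SL φ [0] u₁ * SL φ [0] t₁) * (SL φ [0] t₁)⁻¹ by group, eb',
      inv_mul_cancel_left]
    exact mul_mem ht₁ (inv_mem hSt)
  have e5 : SL φ [0] u₁ = u₁ := (inv_mul_eq_one.1 e4).symm
  rw [e5] at eb'
  obtain ⟨k, hk⟩ := torus_piece z φ hφ hz hsurj ht₁ (mul_left_cancel eb')
  have hU1 := hsu1 e5
  refine ⟨k, L', u₁, u, hL', hU1, hsu eu', ?_⟩
  have hcomm : Commute t₁ u₁ := by
    have e : t₁ = torE z lamX ^ k.val := by
      rw [hk, torE, torE, ← map_pow, ← ofAdd_nsmul, ← map_nsmul]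
      congr 3
      funext i
      simp [lamP]
    rw [e]
    exact (commute_torE_hGrp z (uGrpA_le hU1)).pow_left _
  rw [← hk, ← en, ← mul_assoc, ← mul_assoc, hcomm.eq]

/-- The torus elements of order five meet the Levi group trivially. -/
theorem torE_not_mem (hz : Function.Injective z) (hφ : ∀ t, φ t = t ^ 2) {k : Fin 5}
    (h : torE z (lamP (k, 0)) ∈ hGrp F) : k = 0 := by
  have hall : ∀ g ∈ hGrp F, glMap chevE6 (φ.toRingHom) g = g := by
    intro g hg
    induction hg using Subgroup.closure_induction with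
    | mem x hx =>
      obtain ⟨r, hr, rfl⟩ := hx
      rw [X_eq (show r < chevE6.nroots from (allA_facts r hr).1), glMap_xGL, map_one]
    | one => exact map_one _
    | mul x y _ _ ihx ihy => rw [map_mul, ihx, ihy]
    | inv x _ ihx => rw [map_inv, ihx]
  have hfix := hall _ h
  rw [torE, glMap_tor z φ.toRingHom 2 hφ] at hfix
  have e := congrFun (Multiplicative.ofAdd.injective (tor_injective hz hfix)) ⟨56, by decide⟩
  rw [Pi.smul_apply, smul_eq_mul, ← fv_eq _ (show (56 : ℕ) < 72 by norm_num), fv_lamP] at e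
  have hk : ∀ k : Fin 5, ((2 : ℕ) : ZMod 15) * ((k.val : ZMod 15) * fv lamX 56 + ((0 : Fin 5).val : ZMod 15) * fv lamY 56) =
      (k.val : ZMod 15) * fv lamX 56 + ((0 : Fin 5).val : ZMod 15) * fv lamY 56 → k = 0 := by decide +kernel
  exact hk k e

end Cfsg.Agent.Lib.H59.E6Five
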