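import Cfsg.Agent.Lib.H59.E6Five.Block
import Cfsg.Agent.S0256

/-!
The elements of order five of `²E₆(2)` are conjugate, and the centralizer of one of them is the direct product of the
cyclic group of order five with the alternating group of degree eight.
-/

set_option autoImplicit false
set_option maxRecDepth 8000

namespace Cfsg.Agent.Lib.H59.E6Five

open Cfsg.Lie Cfsg.Agent.Lib.Chev Cfsg.Agent.Lib.Twisted Cfsg.Agent.Lib.Twisted.Core
open Cfsg.Agent.Lib.ChevField Cfsg.Agent.Lib.H59.Homocyclic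
open Cfsg.Agent.Lib.ChevCent (xg)
open scoped Matrix

/-- The choices made for the computation. -/
structure Data5 (K F : Type*) [Field K] [Fintype K] [Field F] [Fintype F] where
  f : K →+* F
  φ : F ≃+* F
  ψ : K ≃+* K
  z : Multiplicative (ZMod 15) →* Fˣ
  a : F
  b : F
  hφ : ∀ t, φ t = t ^ 2
  hψ : ∀ t, ψ t = t ^ 2
  hK : Fintype.card K = 4
  hF : Fintype.card F = 16
  hz : Function.Injective z
  hsurj : Function.Surjective z
  ha : a ^ 4 + a = 1
  hb : b ^ 2 + b = 1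

theorem exists_data5 {K : Type*} [Field K] [Fintype K] (hK : Fintype.card K = 4) :
    ∃ (F : Type) (_ : Field F) (_ : Fintype F) (_ : CharP F 2), CharP K 2 ∧ Nonempty (Data5 K F) := by
  classical
  haveI : Fact (Nat.Prime 2) := ⟨Nat.prime_two⟩
  haveI hKc : CharP K 2 := charP_of_card_eq_prime_pow (f := 2) (by rw [hK]; norm_num)
  let F := FiniteField.Extension K 2 2
  letI : Fintype F := Fintype.ofFinite F
  have hF : Fintype.card F = 16 := by
    rw [Fintype.card_eq_nat_card, FiniteField.natCard_extension, ← Fintype.card_eq_nat_card, hK]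
    norm_num
  haveI hFc : CharP F 2 := charP_of_card_eq_prime_pow (f := 4) (by rw [hF]; norm_num)
  obtain ⟨φ, hφ⟩ := exists_powAut (F := F) Nat.prime_two.isPrimePow (d := 4) (by norm_num) (by rw [hF]; norm_num)
  obtain ⟨ψ, hψ⟩ := exists_powAut (F := K) Nat.prime_two.isPrimePow (d := 2) (by norm_num) (by rw [hK]; norm_num)
  have hFn : Nat.card F = 16 := Nat.card_eq_fintype_card.trans hF
  obtain ⟨z, hz⟩ := exists_zmodHom (K := F) (m := 15) (by rw [hFn]) (by norm_num)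
  have hsurj : Function.Surjective z := by
    refine ((Fintype.bijective_iff_injective_and_card z).2 ⟨hz, ?_⟩).2
    rw [Fintype.card_units, hF]
    rfl
  have h3 : (z (Multiplicative.ofAdd 3) : F) ^ 5 = 1 := by
    rw [← Units.val_pow_eq_pow_val, ← map_pow, ← ofAdd_nsmul,
      show (5 • (3 : ZMod 15)) = 0 by decide, ofAdd_zero, map_one, Units.val_one]
  have h31 : (z (Multiplicative.ofAdd 3) : F) ≠ 1 := fun e => by
    have := hz ((Units.ext e).trans (map_one z).symm)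
    exact absurd this (by decide)
  obtain ⟨a, b, ha, hb⟩ := exists_params h3 h31
  exact ⟨F, inferInstance, inferInstance, hFc, hKc, ⟨⟨algebraMap K F, φ, ψ, z, a, b, hφ, hψ, hK, hF, hz, hsurj, ha, hb⟩⟩⟩

variable {K F : Type*} [Field K] [Fintype K] [CharP K 2] [Field F] [Fintype F] [CharP F 2] (d : Data5 K F)

/-- The twisted group inside the group over the larger field. -/
noncomputable def Data5.inc : ↥(twistedE6 K 2) →* GL chevE6.Idx F :=
  (glMap chevE6 d.f).comp (twistedE6 K 2).subtype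

theorem Data5.inc_injective : Function.Injective d.inc :=
  (glMap_injective d.f).comp Subtype.val_injective

theorem Data5.twisted_eq : twistedE6 K 2 = (e6Twist d.ψ).fixedGroup := by
  have h2 : ∀ t, d.ψ (d.ψ t) = t := fun t => by
    have := FiniteField.pow_card (K := K) t
    rw [d.hK] at this
    rw [d.hψ, d.hψ, ← pow_mul]
    exact this
  exact (e6Orbits Nat.prime_two.isPrimePow (by rw [d.hK]; rfl) d.ψ d.hψ h2).system.eq_fixedGroup

theorem Data5.inc_fixed (v : twistedE6 K 2) : d.inc v ∈ chevE6.group F ∧ sig d.φ (d.inc v) = d.inc v := by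
  obtain ⟨hv, hs⟩ := (e6Twist d.ψ).mem_fixedGroup.1 (d.twisted_eq.le v.2)
  refine ⟨glMap_group_le d.f (Subgroup.mem_map_of_mem _ hv), ?_⟩
  show sig d.φ (glMap chevE6 d.f v.1) = glMap chevE6 d.f v.1
  rw [← glMap_sig d.φ d.hφ d.f d.ψ d.hψ hv]
  exact congrArg _ hs

theorem Data5.exists_inc {y : GL chevE6.Idx F} (hy : y ∈ chevE6.group F) (hs : sig d.φ y = y) {k : ℕ}
    (hk : y ^ k = 1) (h3 : Nat.Coprime k 3) : ∃ v : twistedE6 K 2, d.inc v = y := by
  obtain ⟨v, hv, e⟩ := exists_descend d.φ d.hφ d.f d.ψ d.hψ d.hF d.hK hy hs hk h3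
  exact ⟨⟨v, hv⟩, e⟩

theorem Data5.hGrp_le_range : hGrp F ≤ d.inc.range := by
  rw [hGrp, Subgroup.closure_le]
  rintro _ ⟨r, hr, rfl⟩
  refine d.exists_inc (X_mem _ _) (sig_hGrp d.φ d.hφ (mem_hGrp hr)) (k := 2) ?_ (by norm_num)
  rw [sq]
  exact xg_sq hE r 1

theorem torE_add (z : Multiplicative (ZMod 15) →* Fˣ) (u v : Fin chevE6.rank → ZMod 15) :
    torE z (u + v) = torE z u * torE z v := by
  rw [torE, torE, torE, map_add, ofAdd_add, map_mul]

theorem torE_zero (z : Multiplicative (ZMod 15) →* Fˣ) : torE z 0 = 1 := by simp [torE]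

/-- The homomorphism onto the group of order 25. -/
noncomputable def Data5.eHom : Multiplicative (Fin 5 × Fin 5) →* GL chevE6.Idx F :=
  (MulAut.conj (gEl d.a d.b)).toMonoidHom.comp
    (MonoidHom.mk' (fun p => torE d.z (lamP p.toAdd)) fun p q => by rw [toAdd_mul, lamP_add, torE_add])

theorem Data5.eHom_apply (p : Fin 5 × Fin 5) : d.eHom (Multiplicative.ofAdd p) = eEl d.z d.a d.b p := rfl

theorem Data5.eHom_injective : Function.Injective d.eHom := by
  intro p q e
  have e' : torE d.z (lamP p.toAdd) = torE d.z (lamP q.toAdd) := (MulAut.conj (gEl d.a d.b)).injective e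
  have e2 : iota chevE6 (ZMod 15) (lamP p.toAdd) = iota chevE6 (ZMod 15) (lamP q.toAdd) :=
    Multiplicative.ofAdd.injective (tor_injective d.hz e')
  refine Multiplicative.toAdd.injective (lam_pair.2.1 _ _ fun r hr => ?_)
  have hr72 : r < 72 := (by decide : ∀ r ∈ [56, 46, 42, 39, 37, 36], r < 72) r hr
  rw [fv_eq _ hr72, fv_eq _ hr72, e2]

theorem Data5.eEl_inc (p : Fin 5 × Fin 5) : ∃ v : twistedE6 K 2, d.inc v = eEl d.z d.a d.b p := by
  refine d.exists_inc (eEl_mem _ _ _ p) (eEl_fixed d.φ d.hφ d.z d.ha d.hb p) (k := 5) ?_ (by norm_num)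
  rw [← d.eHom_apply, ← map_pow, ← ofAdd_nsmul,
    show ∀ q : Fin 5 × Fin 5, 5 • q = 0 by decide, ofAdd_zero, map_one]

/-- The group of order 25. -/
noncomputable def Data5.five : Subgroup ↥(twistedE6 K 2) := d.eHom.range.comap d.inc

theorem Data5.card_five : Nat.card d.five = 25 := by
  have hle : d.eHom.range ≤ d.inc.range := by
    rintro _ ⟨p, rfl⟩
    exact d.eEl_inc p.toAdd
  have e : d.five.map d.inc = d.eHom.range := Subgroup.map_comap_eq_self hle
  rw [Nat.card_congr (d.five.equivMapOfInjective d.inc d.inc_injective).toEquiv, e,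
    ← Nat.card_congr (MonoidHom.ofInjective d.eHom_injective).toEquiv]
  simp

theorem Data5.exists_conj_five {x : twistedE6 K 2} (hx : orderOf x = 5) :
    ∃ p : Fin 5 × Fin 5, p ≠ 0 ∧ ∃ g v : twistedE6 K 2, d.inc v = eEl d.z d.a d.b p ∧ g * x * g⁻¹ = v := by
  haveI : Fact (Nat.Prime 5) := ⟨by norm_num⟩
  have hcard : ¬ 125 ∣ Nat.card (twistedE6 K 2) := by
    intro h
    have e := e6_card (q := 2) Nat.prime_two.isPrimePow (K := K) (by rw [d.hK]; rfl)
    have h2 : 125 ∣ Nat.gcd 3 (2 + 1) * Nat.card ↥(twistedE6 K 2) := Dvd.dvd.mul_left h _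
    rw [e] at h2
    norm_num at h2
  obtain ⟨Q, hQ⟩ := (IsPGroup.of_card (p := 5) (n := 2) (by rw [d.card_five]; norm_num)).exists_le_sylow
  obtain ⟨n, hn⟩ := IsPGroup.iff_card.1 Q.2
  have hn2 : n ≤ 2 := by
    by_contra hc
    have h125 : 125 ∣ 5 ^ n := ⟨5 ^ (n - 3), by
      rw [show (125 : ℕ) = 5 ^ 3 by norm_num, ← pow_add, show 3 + (n - 3) = n by omega]⟩
    exact hcard (h125.trans (hn ▸ Subgroup.card_subgroup_dvd_card _))
  have hQe : d.five = (Q : Subgroup (twistedE6 K 2)) := by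
    refine Subgroup.eq_of_le_of_card_ge hQ ?_
    rw [d.card_five, hn, show (25 : ℕ) = 5 ^ 2 by norm_num]
    exact Nat.pow_le_pow_right (by norm_num) hn2
  obtain ⟨R, hR⟩ := (IsPGroup.of_card (p := 5) (n := 1) (G := Subgroup.zpowers x)
    (by rw [Nat.card_zpowers, hx, pow_one])).exists_le_sylow
  obtain ⟨g, hg⟩ := MulAction.exists_smul_eq (twistedE6 K 2) R Q
  have hmem : g * x * g⁻¹ ∈ d.five := by
    rw [hQe, ← hg, Sylow.coe_subgroup_smul]
    exact Subgroup.smul_mem_pointwise_smul _ (MulAut.conj g) _ (hR (Subgroup.mem_zpowers x))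
  obtain ⟨p, hp⟩ := hmem
  refine ⟨p.toAdd, fun h0 => ?_, g, _, hp.symm, rfl⟩
  have hp1 : p = 1 := Multiplicative.toAdd.injective (h0.trans toAdd_one.symm)
  rw [hp1, map_one] at hp
  have h1 : g * x * g⁻¹ = 1 := d.inc_injective (hp.symm.trans (map_one _).symm)
  rw [mul_inv_eq_one, mul_eq_left] at h1
  rw [h1, orderOf_one] at hx
  norm_num at hx

theorem Data5.conj_reach : ∀ (k : ℕ) (p : Fin 5 × Fin 5), p ∈ reachP k →
    ∀ u v : twistedE6 K 2, d.inc u = eEl d.z d.a d.b (1, 0) → d.inc v = eEl d.z d.a d.b p → IsConj u v := by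
  intro k
  induction k with
  | zero =>
    intro p hp u v hu hv
    simp only [reachP, List.mem_singleton] at hp
    subst hp
    rw [d.inc_injective (hu.trans hv.symm)]
  | succ k ih =>
    intro p hp u v hu hv
    simp only [reachP, List.mem_dedup, List.mem_append, List.mem_map] at hp
    have step : ∀ (c : Bool) (q : Fin 5 × Fin 5), q ∈ reachP k → imgP c q = p → IsConj u v := by
      intro c q hq e
      obtain ⟨w, hw⟩ := d.eEl_inc q
      obtain ⟨y, hy⟩ := d.exists_inc (yEl_mem d.a d.b c) (yEl_fixed d.φ d.hφ d.ha d.hb c) (yEl_pow c) (by norm_num)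
      refine (ih q hq u w hu hw).trans (isConj_iff.2 ⟨y, d.inc_injective ?_⟩)
      rw [map_mul, map_mul, map_inv, hy, hw, yEl_conj, e, hv]
    rcases hp with (hp | ⟨q, hq, e⟩) | ⟨q, hq, e⟩
    · exact ih p hp u v hu hv
    · exact step false q hq e
    · exact step true q hq e

theorem Data5.conj_first {u : twistedE6 K 2} (hu : d.inc u = eEl d.z d.a d.b (1, 0)) {x : twistedE6 K 2}
    (hx : orderOf x = 5) : IsConj x u := by
  obtain ⟨p, hp, g, v, hv, hg⟩ := d.exists_conj_five hx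
  exact (isConj_iff.2 ⟨g, hg⟩).trans (d.conj_reach 8 p (reachP_all p hp) u v hu hv).symm

/-! ### The centralizer -/

theorem Data5.gEl_eq_gA (k : Fin 5) :
    eEl d.z d.a d.b (k, 0) = gA d.a * torE d.z (lamP (k, 0)) * (gA d.a)⁻¹ := by
  have e : torE d.z (lamP (k, 0)) = torE d.z lamX ^ k.val := by
    rw [torE, torE, ← map_pow, ← ofAdd_nsmul, ← map_nsmul]
    congr 3
    funext i
    simp [lamP]
  have hc : Commute (torE d.z (lamP (k, 0))) (gB d.b * gC d.a) := e ▸ (commute_gBC_torE d.z d.a d.b).pow_left _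
  rw [eEl, show gEl d.a d.b = gA d.a * (gB d.b * gC d.a) from mul_assoc _ _ _]
  calc gA d.a * (gB d.b * gC d.a) * torE d.z (lamP (k, 0)) * (gA d.a * (gB d.b * gC d.a))⁻¹
      = gA d.a * ((gB d.b * gC d.a) * torE d.z (lamP (k, 0))) * (gB d.b * gC d.a)⁻¹ * (gA d.a)⁻¹ := by group
    _ = gA d.a * (torE d.z (lamP (k, 0)) * (gB d.b * gC d.a)) * (gB d.b * gC d.a)⁻¹ * (gA d.a)⁻¹ := by rw [hc.eq]
    _ = _ := by group

theorem Data5.commute_five_hGrp (k : Fin 5) {h : GL chevE6.Idx F} (hh : h ∈ hGrp F) :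
    Commute (eEl d.z d.a d.b (k, 0)) h := by
  rw [d.gEl_eq_gA]
  have e : torE d.z (lamP (k, 0)) = torE d.z lamX ^ k.val := by
    rw [torE, torE, ← map_pow, ← ofAdd_nsmul, ← map_nsmul]
    congr 3
    funext i
    simp [lamP]
  have hg := commute_gA_hGrp d.a hh
  exact ((hg.mul_left (e ▸ (commute_torE_hGrp d.z hh).pow_left _)).mul_left hg.inv_left)

/-- The direct product. -/
noncomputable def Data5.prodHom : Multiplicative (Fin 5) × ↥(hGrp F) →* GL chevE6.Idx F :=
  MonoidHom.noncommCoprod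
    (d.eHom.comp (AddMonoidHom.toMultiplicative (AddMonoidHom.inl (Fin 5) (Fin 5)) :
      Multiplicative (Fin 5) →* Multiplicative (Fin 5 × Fin 5)))
    (hGrp F).subtype fun k h => d.commute_five_hGrp k.toAdd h.2

theorem Data5.prodHom_apply (k : Multiplicative (Fin 5)) (h : hGrp F) :
    d.prodHom (k, h) = eEl d.z d.a d.b (k.toAdd, 0) * h.1 := rfl

theorem Data5.prodHom_injective : Function.Injective d.prodHom := by
  rw [injective_iff_map_eq_one]
  rintro ⟨k, h⟩ e
  rw [d.prodHom_apply, d.gEl_eq_gA] at e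
  have hg := commute_gA_hGrp d.a h.2
  have e2 : torE d.z (lamP (k.toAdd, 0)) = (h.1)⁻¹ := by
    calc torE d.z (lamP (k.toAdd, 0))
        = (gA d.a)⁻¹ * (gA d.a * torE d.z (lamP (k.toAdd, 0)) * (gA d.a)⁻¹ * h.1) * h.1⁻¹ * gA d.a := by group
      _ = (gA d.a)⁻¹ * (h.1⁻¹ * gA d.a) := by rw [e]; group
      _ = h.1⁻¹ := by rw [← hg.inv_right.eq, inv_mul_cancel_left]
  have hk : k.toAdd = 0 := torE_not_mem d.z d.φ d.hz d.hφ (e2 ▸ inv_mem h.2)
  have hh : h.1 = 1 := by
    rw [hk] at e2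
    rw [show ((0 : Fin 5), (0 : Fin 5)) = 0 from rfl, lam_pair.2.2.2.2.1, torE_zero] at e2
    exact inv_eq_one.1 e2.symm
  exact Prod.ext (Multiplicative.toAdd.injective (hk.trans toAdd_one.symm)) (Subtype.ext hh)

theorem Data5.map_centralizer {u : twistedE6 K 2} (hu : d.inc u = eEl d.z d.a d.b (1, 0)) :
    (Subgroup.centralizer {u}).map d.inc = d.prodHom.range := by
  have hg := gA_mem (F := F) d.a
  have hlam : lamP ((1 : Fin 5), (0 : Fin 5)) = lamX := lam_pair.2.2.1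
  refine le_antisymm ?_ ?_
  · rintro _ ⟨v, hv, rfl⟩
    obtain ⟨hvG, hvs⟩ := d.inc_fixed v
    have hvu : Commute (d.inc u) (d.inc v) :=
      (Commute.map (Subgroup.mem_centralizer_iff.1 hv u rfl) d.inc)
    rw [hu, d.gEl_eq_gA, hlam] at hvu
    generalize d.inc v = y at hvG hvs hvu ⊢
    have hc : Commute (torE d.z lamX) ((gA d.a)⁻¹ * y * gA d.a) := by
      refine (commute_iff_eq _ _).2 ?_
      calc torE d.z lamX * ((gA d.a)⁻¹ * y * gA d.a)
          = (gA d.a)⁻¹ * (gA d.a * torE d.z lamX * (gA d.a)⁻¹ * y) * gA d.a := by group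
        _ = (gA d.a)⁻¹ * (y * (gA d.a * torE d.z lamX * (gA d.a)⁻¹)) * gA d.a := by rw [hvu.eq]
        _ = _ := by group
    have hsL : SL d.φ [0] ((gA d.a)⁻¹ * y * gA d.a) = (gA d.a)⁻¹ * y * gA d.a := by
      rw [SL, sig_mul d.φ (mul_mem (inv_mem hg) hvG) hg, sig_mul d.φ (inv_mem hg) hvG, hvs,
        show sig d.φ (gA d.a)⁻¹ = (sig d.φ (gA d.a))⁻¹ from (e6Twist d.φ).sig_inv hg, sig_gA d.φ d.hφ d.ha]
      group
    obtain ⟨k, L, u₁, w, hL, hu₁, hw, e⟩ :=
      cent_form d.z d.φ d.hφ d.hz d.hsurj (mul_mem (mul_mem (inv_mem hg) hvG) hg) hc hsL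
    have hh : u₁ * nProd hE F L * w ∈ hGrp F :=
      mul_mem (mul_mem (uGrpA_le hu₁) (levW_mem hL)) (uGrpA_le hw)
    refine ⟨(Multiplicative.ofAdd k, ⟨_, hh⟩), ?_⟩
    rw [d.prodHom_apply, toAdd_ofAdd, d.gEl_eq_gA]
    calc gA d.a * torE d.z (lamP (k, 0)) * (gA d.a)⁻¹ * (u₁ * nProd hE F L * w)
        = gA d.a * torE d.z (lamP (k, 0)) * ((u₁ * nProd hE F L * w) * (gA d.a)⁻¹) := by
          rw [mul_assoc, ← (commute_gA_hGrp d.a hh).inv_left.eq]
      _ = gA d.a * (torE d.z (lamP (k, 0)) * (u₁ * nProd hE F L * w)) * (gA d.a)⁻¹ := by group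
      _ = y := by rw [← e]; group
  · rintro _ ⟨⟨k, h⟩, rfl⟩
    obtain ⟨v₁, hv₁⟩ := d.eEl_inc (k.toAdd, 0)
    obtain ⟨v₂, hv₂⟩ := d.hGrp_le_range h.2
    refine ⟨v₁ * v₂, Subgroup.mem_centralizer_iff.2 ?_, by rw [map_mul, hv₁, hv₂]; rfl⟩
    rintro _ rfl
    apply d.inc_injective
    simp only [map_mul, hu, hv₁, hv₂]
    refine (Commute.mul_right ?_ (d.commute_five_hGrp 1 h.2)).eq
    rw [← d.eHom_apply, ← d.eHom_apply]
    exact (Commute.all _ _).map d.eHom

theorem Data5.centralizer_equiv {u : twistedE6 K 2} (hu : d.inc u = eEl d.z d.a d.b (1, 0)) :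
    Nonempty (↥(Subgroup.centralizer ({u} : Set ↥(twistedE6 K 2))) ≃*
      (Multiplicative (ZMod 5) × ↥(alternatingGroup (Fin 8)))) := by
  haveI : Fact (Nat.Prime 2) := ⟨Nat.prime_two⟩
  obtain ⟨eA⟩ := Cfsg.Agent.S0256.nonempty_equiv_zmod
  let e1 : ↥(hGrp (ZMod 2)) ≃* Matrix.SpecialLinearGroup (Fin 4) (ZMod 2) :=
    MulEquiv.ofBijective natHom ⟨natHom_injective d.z d.hz d.hsurj d.φ d.hφ, natHom_surjective⟩
  let f0 : ZMod 2 →+* F := ZMod.castHom dvd_rfl F
  let e2 : ↥(hGrp (ZMod 2)) ≃* ↥(hGrp F) :=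
    ((hGrp (ZMod 2)).equivMapOfInjective _ (glMap_injective f0)).trans (MulEquiv.subgroupCongr (glMap_hGrp f0))
  exact ⟨((Subgroup.centralizer {u}).equivMapOfInjective d.inc d.inc_injective).trans
    ((MulEquiv.subgroupCongr (d.map_centralizer hu)).trans ((MonoidHom.ofInjective d.prodHom_injective).symm.trans
      (MulEquiv.prodCongr (MulEquiv.refl (Multiplicative (Fin 5)) : Multiplicative (Fin 5) ≃* Multiplicative (ZMod 5)) (e2.symm.trans (e1.trans eA)))))⟩

theorem centralizer_equiv_of_conj {G : Type*} [Group G] {x u g : G} (e : g * x * g⁻¹ = u) :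
    Nonempty (↥(Subgroup.centralizer ({x} : Set G)) ≃* ↥(Subgroup.centralizer ({u} : Set G))) := by
  refine ⟨((MulAut.conj g).subgroupMap _).trans (MulEquiv.subgroupCongr ?_)⟩
  ext y
  rw [Subgroup.mem_map]
  simp only [Subgroup.mem_centralizer_singleton_iff]
  constructor
  · rintro ⟨w, hw, rfl⟩
    show g * w * g⁻¹ * u = u * (g * w * g⁻¹)
    rw [← e]
    calc g * w * g⁻¹ * (g * x * g⁻¹) = g * (w * x) * g⁻¹ := by group
      _ = g * (x * w) * g⁻¹ := by rw [hw]
      _ = _ := by group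
  · intro hy
    refine ⟨g⁻¹ * y * g, ?_, show g * (g⁻¹ * y * g) * g⁻¹ = y by group⟩
    rw [← e] at hy
    calc g⁻¹ * y * g * x = g⁻¹ * (y * (g * x * g⁻¹)) * g := by group
      _ = g⁻¹ * (g * x * g⁻¹ * y) * g := by rw [hy]
      _ = _ := by group

theorem twistedE6_two_five {K : Type*} [Field K] [Fintype K] (hK : Fintype.card K = 4) :
    (∀ x y : ↥(twistedE6 K 2), orderOf x = 5 → orderOf y = 5 → IsConj x y) ∧
      ∀ x : ↥(twistedE6 K 2), orderOf x = 5 →
        Nonempty (↥(Subgroup.centralizer ({x} : Set ↥(twistedE6 K 2))) ≃*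
          (Multiplicative (ZMod 5) × ↥(alternatingGroup (Fin 8)))) := by
  obtain ⟨F, iF, iFt, iFc, iKc, ⟨d⟩⟩ := exists_data5 hK
  obtain ⟨u, hu⟩ := d.eEl_inc (1, 0)
  refine ⟨fun x y hx hy => (d.conj_first hu hx).trans (d.conj_first hu hy).symm, fun x hx => ?_⟩
  obtain ⟨g, hg⟩ := isConj_iff.1 (d.conj_first hu hx)
  obtain ⟨e⟩ := centralizer_equiv_of_conj hg
  obtain ⟨e'⟩ := d.centralizer_equiv hu
  exact ⟨e.trans e'⟩

end Cfsg.Agent.Lib.H59.E6Five
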