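import Cfsg.Agent.Lib.H59.E6Five.Data
import Cfsg.Agent.Lib.H59.E6Five.Char2
import Cfsg.Agent.Lib.Twisted.Core.E6Group
import Cfsg.Agent.Lib.H59.Homocyclic.Descend
import Cfsg.Agent.Lib.H59.Homocyclic.Main

/-!
The torus containing a Sylow `5`-subgroup of `²E₆(2)` inside `E₆(16)`, with explicit diagonalising elements.
-/

set_option autoImplicit false
set_option maxRecDepth 8000

namespace Cfsg.Agent.Lib.H59.E6Five

open Cfsg.Lie Cfsg.Agent.Lib.Chev Cfsg.Agent.Lib.Twisted Cfsg.Agent.Lib.Twisted.Core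
open Cfsg.Agent.Lib.ChevField Cfsg.Agent.Lib.H59.Homocyclic
open Cfsg.Agent.Lib.ChevCent (xg coe_xg xg_mem_rootGen evenTerms xg_add)
open scoped Matrix

/-- The certificate of the tables. -/
abbrev hE : Checked chevE6 E6.cert := rootedE6.toChecked

variable {F : Type*} [Field F] [CharP F 2]

/-- A root element of `E₆`. -/
noncomputable abbrev X (r : ℕ) (t : F) : GL chevE6.Idx F := xg hE r t

omit [CharP F 2] in
theorem X_eq {r : ℕ} (hr : r < chevE6.nroots) (t : F) : X r t = xGL hE F hr t := Units.ext (coe_xg hE r t)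

omit [CharP F 2] in
theorem X_mem (r : ℕ) (t : F) : X r t ∈ chevE6.group F := by
  by_cases hr : r < chevE6.nroots
  · rw [X_eq hr]; exact hE.xGL_mem_group hr t
  · have : X r t = 1 := by simp [X, xg, hr]
    rw [this]; exact one_mem _

omit [CharP F 2] in
theorem isWord6 {L : List ℕ} (h : ∀ i ∈ L, i < 6) : IsWord chevE6 L := h

omit [CharP F 2] in
theorem node_word6 {L : List ℕ} (h : IsWord chevE6 L) : IsWord chevE6 (L.map e6Graph.node) := by
  intro i hi
  obtain ⟨k, hk, rfl⟩ := List.mem_map.1 hi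
  have := h k hk
  simp only [rank6] at this ⊢
  interval_cases k <;> decide

/-- The element which moves one fundamental pair. -/
noncomputable def Qel (r : ℕ) (a : F) : GL chevE6.Idx F := X r a * X (ng chevE6 r) 1

theorem Qel_mem (r : ℕ) (a : F) : Qel r a ∈ chevE6.group F := mul_mem (X_mem _ _) (X_mem _ _)

theorem Qel_diff {r : ℕ} (hr : r < 72) {a a' : F} (h : a + a' = 1) :
    (Qel r a)⁻¹ * Qel r a' = rootWeyl hE F (ng chevE6 r) := by
  unfold Qel rootWeyl
  rw [mul_inv_rev, xg_inv_self, xg_inv_self, Checked.ng_ng (show r < chevE6.nroots from hr),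
    show X (ng chevE6 r) (1 : F) * X r a * (X r a' * X (ng chevE6 r) 1) =
      X (ng chevE6 r) 1 * (X r a * X r a') * X (ng chevE6 r) 1 by group,
    ← xg_add, h]

theorem commute_X {a b : ℕ} (ha : a < 72) (hb : b < 72) (h1 : b ≠ ng chevE6 a)
    (h2 : evenTerms E6.cert a b = true) (s t : F) : Commute (X a s) (X b t) :=
  Cfsg.Agent.Lib.ChevCent.xg_commute hE ha hb h1 (Or.inr h2) t s

omit [CharP F 2] in
theorem ng_lt72 {r : ℕ} (hr : r < 72) : ng chevE6 r < 72 := Checked.ng_lt (D := chevE6) hr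

theorem commute_pair {r r' : ℕ} (he : (r, r') ∈ [(56, 36), (46, 69), (47, 70)]) {a b : ℕ}
    (ha : a = r ∨ a = ng chevE6 r) (hb : b = r' ∨ b = ng chevE6 r') (s t : F) : Commute (X a s) (X b t) := by
  obtain ⟨hr, hr', h⟩ := pair_facts _ he
  have ha' : a < 72 := by rcases ha with rfl | rfl <;> first | exact hr | exact ng_lt72 hr
  have hb' : b < 72 := by rcases hb with rfl | rfl <;> first | exact hr' | exact ng_lt72 hr'
  obtain ⟨h1, h2⟩ := h a (by simpa using ha) b (by simpa using hb)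
  exact commute_X ha' hb' h1 h2 s t

theorem commute_Qel {r r' : ℕ} (he : (r, r') ∈ [(56, 36), (46, 69), (47, 70)]) (s t : F) :
    Commute (Qel r s) (Qel r' t) :=
  ((commute_pair he (Or.inl rfl) (Or.inl rfl) _ _).mul_left (commute_pair he (Or.inr rfl) (Or.inl rfl) _ _)).mul_right
    ((commute_pair he (Or.inl rfl) (Or.inr rfl) _ _).mul_left (commute_pair he (Or.inr rfl) (Or.inr rfl) _ _))

variable (φ : F ≃+* F) (hφ : ∀ t, φ t = t ^ 2)

/-- The endomorphism. -/
noncomputable abbrev sig (y : GL chevE6.Idx F) : GL chevE6.Idx F := (e6Twist φ).sig y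

omit [CharP F 2] in
theorem sig_mem {y : GL chevE6.Idx F} (hy : y ∈ chevE6.group F) : sig φ y ∈ chevE6.group F :=
  (e6Twist φ).sig_mem hy

omit [CharP F 2] in
theorem sig_mul {a b : GL chevE6.Idx F} (ha : a ∈ chevE6.group F) (hb : b ∈ chevE6.group F) :
    sig φ (a * b) = sig φ a * sig φ b :=
  (e6Twist φ).sig_mul ha hb

omit [CharP F 2] in
theorem nProd_mem {L : List ℕ} (hL : IsWord chevE6 L) : nProd hE F L ∈ chevE6.group F :=
  rootedE6.monomial_le_group (rootedE6.nProd_mem_monomial hL)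

include hφ in
theorem sig_X {r : ℕ} (hr : r < 72) (t : F) : sig φ (X r t) = X (e6Graph.root r) (t ^ 2) := by
  have hr' : r < chevE6.nroots := hr
  have ha : e6Graph.root r < chevE6.nroots := (root_facts r hr).1
  rw [X_eq hr', X_eq ha, sig, (e6Twist φ).sig_x hr']
  have e : (e6Twist φ).f r t = t ^ 2 := by
    show ((e6Graph.sign r : ℤ) : F) * φ t = t ^ 2
    rcases (root_facts r hr).2.2.1 with h | h <;> simp [h, hφ, CharTwo.neg_eq]
  rw [e]
  exact hE.xGL_congr rfl _ _ _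

/-- The endomorphism followed by a conjugation. -/
noncomputable def SL (L : List ℕ) (y : GL chevE6.Idx F) : GL chevE6.Idx F :=
  nProd hE F L * sig φ y * (nProd hE F L)⁻¹

omit [CharP F 2] in
theorem SL_mul (L : List ℕ) {a b : GL chevE6.Idx F} (ha : a ∈ chevE6.group F) (hb : b ∈ chevE6.group F) :
    SL φ L (a * b) = SL φ L a * SL φ L b := by
  simp only [SL, sig_mul φ ha hb]
  group

omit [CharP F 2] in
theorem SL_append (L L' : List ℕ) (y : GL chevE6.Idx F) :
    SL φ (L ++ L') y = nProd hE F L * SL φ L' y * (nProd hE F L)⁻¹ := by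
  simp only [SL, nProd_append]
  group

omit [CharP F 2] in
theorem sig_eq_SL (L : List ℕ) (y : GL chevE6.Idx F) : sig φ y = (nProd hE F L)⁻¹ * SL φ L y * nProd hE F L := by
  simp only [SL]
  group

include hφ in
theorem SL_X {L : List ℕ} (hL : IsWord chevE6 L) {r : ℕ} (hr : r < 72) (t : F) :
    SL φ L (X r t) = X (perm E6.cert L (e6Graph.root r)) (t ^ 2) := by
  rw [SL, sig_X φ hφ hr, X, nProd_conj_xg hE hL (show e6Graph.root r < chevE6.nroots from (root_facts r hr).1)]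

include hφ in
theorem SL_Qel {L : List ℕ} (hL : IsWord chevE6 L) {r : ℕ} (hr : r < 72) (a : F) :
    SL φ L (Qel r a) = Qel (perm E6.cert L (e6Graph.root r)) (a ^ 2) := by
  have hroot : e6Graph.root r < chevE6.nroots := (root_facts r hr).1
  rw [Qel, SL_mul φ L (X_mem _ _) (X_mem _ _), SL_X φ hφ hL hr, SL_X φ hφ hL (ng_lt72 hr), one_pow,
    (root_facts r hr).2.2.2, hE.perm_ng hL hroot]
  rfl

include hφ in
theorem pair_twist {L : List ℕ} (hL : IsWord chevE6 L) {r r' : ℕ}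
    (he : (r, r') ∈ [(56, 36), (46, 69), (47, 70)]) (h1 : perm E6.cert L (e6Graph.root r) = r')
    (h2 : perm E6.cert L (e6Graph.root r') = r) {a : F} (ha : a ^ 4 + a = 1) :
    SL φ L (Qel r a * Qel r' (a ^ 2)) = Qel r a * Qel r' (a ^ 2) * rootWeyl hE F (ng chevE6 r) := by
  obtain ⟨hr, hr', -⟩ := pair_facts _ he
  rw [SL_mul φ L (Qel_mem _ _) (Qel_mem _ _), SL_Qel φ hφ hL hr, SL_Qel φ hφ hL hr', h1, h2, ← pow_mul,
    ← Qel_diff hr (show a + a ^ (2 * 2) = 1 by rw [add_comm]; exact ha)]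
  have c := commute_Qel (F := F) he
  calc Qel r' (a ^ 2) * Qel r (a ^ (2 * 2)) = Qel r' (a ^ 2) * (Qel r a * (Qel r a)⁻¹) * Qel r (a ^ (2 * 2)) := by
        group
    _ = (Qel r' (a ^ 2) * Qel r a) * ((Qel r a)⁻¹ * Qel r (a ^ (2 * 2))) := by group
    _ = _ := by rw [← (c a (a ^ 2)).eq]

/-- The first part of the diagonalising element. -/
noncomputable def gA (a : F) : GL chevE6.Idx F := Qel 56 a * Qel 36 (a ^ 2)

/-- The second part of the diagonalising element. -/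
noncomputable def gB (b : F) : GL chevE6.Idx F := Qel 46 b * Qel 69 b

/-- The third part of the diagonalising element. -/
noncomputable def gC (a : F) : GL chevE6.Idx F := Qel 47 a * Qel 70 (a ^ 2)

/-- The diagonalising element. -/
noncomputable def gEl (a b : F) : GL chevE6.Idx F := gA a * gB b * gC a

theorem gA_mem (a : F) : gA a ∈ chevE6.group F := mul_mem (Qel_mem _ _) (Qel_mem _ _)
theorem gB_mem (b : F) : gB b ∈ chevE6.group F := mul_mem (Qel_mem _ _) (Qel_mem _ _)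
theorem gC_mem (a : F) : gC a ∈ chevE6.group F := mul_mem (Qel_mem _ _) (Qel_mem _ _)
theorem gEl_mem (a b : F) : gEl a b ∈ chevE6.group F := mul_mem (mul_mem (gA_mem a) (gB_mem b)) (gC_mem a)

theorem rootWeyl_word {r : ℕ} {K : List ℕ} {i : ℕ} {L : List ℕ}
    (he : (r, K, i, L) ∈ [(15, [0], 0, [0]), (25, [1], 1, [1]), (24, [3, 1], 1, [1, 3, 1]),
      (2, [4, 5, 2, 3, 4, 1, 3, 2, 0], 0, wG)]) : rootWeyl hE F r = nProd hE F L := by
  obtain ⟨hK, hi, hL, e1, e2⟩ := reflection_words _ he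
  exact rootWeyl_eq' rootedE6 hK (show i < chevE6.rank from hi) hL e1 e2

include hφ in
theorem sig_gA {a : F} (ha : a ^ 4 + a = 1) : sig φ (gA a) = gA a * nProd hE F [0] := by
  have e := pair_twist φ hφ (L := []) (isWord6 (by simp)) (r := 56) (r' := 36) (by simp) twist_facts.1.1
    twist_facts.1.2 ha
  rw [← rootWeyl_word (F := F) (r := 15) (K := [0]) (i := 0) (L := [0]) (by simp)]
  rw [show ng chevE6 56 = 15 from rfl] at e
  simpa [SL, nProd, gA] using e

include hφ in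
theorem SL_gB {b : F} (hb : b ^ 2 + b = 1) : SL φ [0] (gB b) = gB b * nProd hE F ([1] ++ wG) := by
  have h0 : IsWord chevE6 [0] := isWord6 (by simp)
  have hr : perm E6.cert [0] (e6Graph.root 46) = 46 ∧ perm E6.cert [0] (e6Graph.root 69) = 69 := by decide +kernel
  have hd : ∀ r < 72, (Qel r b)⁻¹ * Qel r (b ^ 2) = rootWeyl hE F (ng chevE6 r) := fun r h =>
    Qel_diff h (by rw [add_comm]; exact hb)
  have h69 := hd 69 (by norm_num)
  have h46 := hd 46 (by norm_num)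
  have c : Commute (Qel (F := F) 46 b) (Qel 69 b) := commute_Qel (by simp) _ _
  have c2 : Commute (Qel (F := F) 46 (b ^ 2)) (Qel 69 b) := commute_Qel (by simp) _ _
  rw [gB, SL_mul φ _ (Qel_mem _ _) (Qel_mem _ _), SL_Qel φ hφ h0 (by norm_num), SL_Qel φ hφ h0 (by norm_num),
    hr.1, hr.2, nProd_append,
    ← rootWeyl_word (F := F) (r := 25) (K := [1]) (i := 1) (L := [1]) (by simp),
    ← rootWeyl_word (F := F) (r := 2) (K := [4, 5, 2, 3, 4, 1, 3, 2, 0]) (i := 0) (L := wG) (by simp),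
    show (25 : ℕ) = ng chevE6 46 from rfl, show (2 : ℕ) = ng chevE6 69 from rfl, ← h46, ← h69]
  calc Qel 46 (b ^ 2) * Qel 69 (b ^ 2) = (Qel 46 (b ^ 2) * Qel 69 b) * ((Qel 69 b)⁻¹ * Qel 69 (b ^ 2)) := by group
    _ = (Qel 69 b * Qel 46 (b ^ 2)) * ((Qel 69 b)⁻¹ * Qel 69 (b ^ 2)) := by rw [c2.eq]
    _ = (Qel 69 b * Qel 46 b) * ((Qel 46 b)⁻¹ * Qel 46 (b ^ 2)) * ((Qel 69 b)⁻¹ * Qel 69 (b ^ 2)) := by group
    _ = (Qel 46 b * Qel 69 b) * (((Qel 46 b)⁻¹ * Qel 46 (b ^ 2)) * ((Qel 69 b)⁻¹ * Qel 69 (b ^ 2))) := by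
      rw [← c.eq]; group

include hφ in
theorem SL_gC {a : F} (ha : a ^ 4 + a = 1) :
    SL φ ([1] ++ wG ++ [0]) (gC a) = gC a * nProd hE F [1, 3, 1] := by
  have hW : IsWord chevE6 ([1] ++ wG ++ [0]) := isWord6 (by decide)
  rw [← rootWeyl_word (F := F) (r := 24) (K := [3, 1]) (i := 1) (L := [1, 3, 1]) (by simp)]
  exact pair_twist φ hφ hW (by simp) twist_facts.2.1 twist_facts.2.2 ha

include hφ in
theorem sig_gEl {a b : F} (ha : a ^ 4 + a = 1) (hb : b ^ 2 + b = 1) :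
    sig φ (gEl a b) = gEl a b * nProd hE F cStar := by
  have e2 : SL φ [0] (gC a) = (nProd hE F ([1] ++ wG))⁻¹ * (gC a * nProd hE F [1, 3, 1]) * nProd hE F ([1] ++ wG) := by
    rw [← SL_gC φ hφ ha, SL_append φ ([1] ++ wG) [0]]
    group
  rw [gEl, sig_mul φ (mul_mem (gA_mem a) (gB_mem b)) (gC_mem a), sig_mul φ (gA_mem a) (gB_mem b), sig_gA φ hφ ha,
    sig_eq_SL φ [0] (gB b), sig_eq_SL φ [0] (gC a), SL_gB φ hφ hb, e2,
    show cStar = [1, 3, 1] ++ ([1] ++ wG) ++ [0] from rfl]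
  simp only [nProd_append]
  group

/-! ### The parameters -/

theorem exists_params {ζ : F} (h5 : ζ ^ 5 = 1) (h1 : ζ ≠ 1) : ∃ a b : F, a ^ 4 + a = 1 ∧ b ^ 2 + b = 1 := by
  have hsum : ζ ^ 4 + ζ ^ 3 + ζ ^ 2 + ζ + 1 = 0 := by
    have e : (ζ - 1) * (ζ ^ 4 + ζ ^ 3 + ζ ^ 2 + ζ + 1) = 0 := by linear_combination h5
    exact (mul_eq_zero.1 e).resolve_left (sub_ne_zero.2 h1)
  have h2 : (2 : F) = 0 := CharTwo.two_eq_zero
  set s : F := ζ + ζ ^ 4 with hs
  have hb : s ^ 2 + s = 1 := by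
    rw [hs]; linear_combination hsum + (ζ ^ 5 - 1) * h2 + (h5 * ζ ^ 3)
  refine ⟨(s + 1) * ζ, s, ?_, hb⟩
  have h4 : (s + 1) ^ 4 = s + 1 := by
    linear_combination (s ^ 2 + 3 * s + 4) * hb + (s + 2) * h2
  calc ((s + 1) * ζ) ^ 4 + (s + 1) * ζ = (s + 1) * (ζ ^ 4 + ζ) := by rw [mul_pow, h4]; ring
    _ = 1 := by rw [show ζ ^ 4 + ζ = s by rw [hs]; ring]; linear_combination hb

end Cfsg.Agent.Lib.H59.E6Five
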