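import Cfsg.Agent.Lib.H59.E6Five.Setting
import Cfsg.Agent.Lib.Chev.PoincareE6

/-!
The elements of the torus and of its normalizer which the twist fixes, and the descent to the field with four elements.
-/

set_option autoImplicit false
set_option maxRecDepth 8000

namespace Cfsg.Agent.Lib.H59.E6Five

open Cfsg.Lie Cfsg.Agent.Lib.Chev Cfsg.Agent.Lib.Twisted Cfsg.Agent.Lib.Twisted.Core
open Cfsg.Agent.Lib.ChevField Cfsg.Agent.Lib.H59.Homocyclic
open scoped Matrix

variable {F : Type*} [Field F] [CharP F 2] (φ : F ≃+* F) (hφ : ∀ t, φ t = t ^ 2)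
variable (z : Multiplicative (ZMod 15) →* Fˣ)

/-- An element of the torus from its exponents. -/
noncomputable def torE (lam : Fin chevE6.rank → ZMod 15) : GL chevE6.Idx F :=
  tor z (Multiplicative.ofAdd (iota chevE6 (ZMod 15) lam))

omit [CharP F 2] in
theorem torE_mem_diag (lam : Fin chevE6.rank → ZMod 15) : torE z lam ∈ chevE6.diagonalSubgroup F :=
  tor_mem hE rootedE6 ⟨lam, rfl⟩

omit [CharP F 2] in
theorem torE_mem (lam : Fin chevE6.rank → ZMod 15) : torE z lam ∈ chevE6.group F :=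
  rootedE6.diagonal_le_group (torE_mem_diag z lam)

/-- The image of exponents under the twist. -/
def twLam (lam : Fin chevE6.rank → ZMod 15) : Fin chevE6.rank → ZMod 15 := fun i =>
  if h : e6Graph.node i.val < chevE6.rank then 2 * lam ⟨e6Graph.node i.val, h⟩ else 0

include hφ in
omit [CharP F 2] in
theorem sig_torE (lam : Fin chevE6.rank → ZMod 15) : sig φ (torE z lam) = torE z (twLam lam) := by
  rw [torE, torE, tor_iota, tor_iota, sig, (e6Twist φ).sig_torusHom]
  refine Twist.torusHom_congr fun i hi => ?_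
  have hn : e6Graph.node i < chevE6.rank := (e6Twist φ).node_lt i hi
  have e := (e6Twist φ).torusImg_node (zcoord z lam) hn
  rw [show (e6Twist φ).node (e6Graph.node i) = i from e6_node_node i hi] at e
  rw [e]
  refine Units.ext ?_
  rw [(e6Twist φ).coe_fU hn]
  have hf : (e6Twist φ).f (chevE6.simple (e6Graph.node i)) (zcoord z lam (e6Graph.node i) : F) =
      φ (zcoord z lam (e6Graph.node i) : F) := graphTwist_f_simple rootedE6 e6Graph_facts chkGraph_E6 φ hn _
  rw [hf, hφ, zcoord, zcoord, dif_pos hn, dif_pos hi, twLam, dif_pos hn, ← Units.val_pow_eq_pow_val, ← map_pow,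
    ← ofAdd_nsmul, nsmul_eq_mul, Nat.cast_ofNat]

/-- The symmetry of the nodes. -/
def nodeEquiv : Equiv.Perm (Fin chevE6.rank) :=
  Function.Involutive.toPerm
    (fun i => ⟨e6Graph.node i.val % 6, Nat.mod_lt _ (show 0 < 6 by norm_num)⟩) (by unfold Function.Involutive; decide +kernel)

theorem iota_twLam (lam : Fin chevE6.rank → ZMod 15) {r : ℕ} (hr : r < 72) :
    iota chevE6 (ZMod 15) (twLam lam) ⟨e6Graph.root r, (root_facts r hr).1⟩ =
      2 * iota chevE6 (ZMod 15) lam ⟨r, hr⟩ := by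
  rw [iota_apply, iota_apply, Finset.mul_sum]
  refine Fintype.sum_equiv nodeEquiv _ _ fun i => ?_
  have hn : e6Graph.node i.val < 6 := (e6Twist (RingEquiv.refl (ZMod 2))).node_lt i.val i.2
  have e : (nodeEquiv i).val = e6Graph.node i.val := Nat.mod_eq_of_lt hn
  have e2 := lam_node (e6Graph.node i.val) hn r hr
  rw [e6_node_node i.val i.2] at e2
  rw [twLam, dif_pos (show e6Graph.node i.val < chevE6.rank from hn)]
  simp only [e, e2]
  rw [show nodeEquiv i = ⟨e6Graph.node i.val, hn⟩ from Fin.ext e]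
  ring

theorem fv_eq (lam : Fin chevE6.rank → ZMod 15) {r : ℕ} (hr : r < 72) :
    fv lam r = iota chevE6 (ZMod 15) lam ⟨r, hr⟩ := rfl

theorem fv_lamP (p : Fin 5 × Fin 5) (r : ℕ) :
    fv (lamP p) r = (p.1.val : ZMod 15) * fv lamX r + (p.2.val : ZMod 15) * fv lamY r := by
  simp only [fv, lamP, Pi.add_apply, Pi.smul_apply, smul_eq_mul, Finset.mul_sum, ← Finset.sum_add_distrib]
  exact Finset.sum_congr rfl fun i _ => by ring

theorem fv_twist (p : Fin 5 × Fin 5) {r : ℕ} (hr : r < 72) :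
    fv (lamP p) (perm E6.cert cStar (e6Graph.root r)) = 2 * fv (lamP p) r := by
  have hm : (r, perm E6.cert cStar (e6Graph.root r)) ∈ cTab := by
    rw [cTab_ok]; exact List.mem_map.2 ⟨r, List.mem_range.2 hr, rfl⟩
  obtain ⟨e1, e2⟩ := lam_twist _ hm
  simp only at e1 e2
  rw [fv_lamP, fv_lamP, e1, e2]
  ring

theorem fv_wC (b : Bool) (p : Fin 5 × Fin 5) {s : ℕ} (hs : s < 72) :
    fv (lamP (imgP b p)) (perm E6.cert (wC b) s) = fv (lamP p) s := by
  have hm : (s, perm E6.cert (wC b) s) ∈ wTab b := by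
    rw [wTab_ok]; exact List.mem_map.2 ⟨s, List.mem_range.2 hs, rfl⟩
  obtain ⟨e1, e2⟩ := wC_vec b _ hm
  simp only at e1 e2
  have key : ∀ b p, lamP (imgP b p) =
      (p.1.val : ZMod 15) • lamP (imgP b (1, 0)) + (p.2.val : ZMod 15) • lamP (imgP b (0, 1)) := by
    decide +kernel
  have hlin : ∀ (c d : ZMod 15) (u v : Fin chevE6.rank → ZMod 15) (r : ℕ),
      fv (c • u + d • v) r = c * fv u r + d * fv v r := fun c d u v r => by
    simp only [fv, Pi.add_apply, Pi.smul_apply, smul_eq_mul, Finset.mul_sum, ← Finset.sum_add_distrib]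
    exact Finset.sum_congr rfl fun i _ => by ring
  rw [key, hlin, e1, e2, fv_lamP]

theorem act_twLam (p : Fin 5 × Fin 5) :
    act (wperm hE cStar) (iota chevE6 (ZMod 15) (twLam (lamP p))) = iota chevE6 (ZMod 15) (lamP p) := by
  funext s
  obtain ⟨t, rfl⟩ := (wperm hE cStar).surjective s
  rw [act_apply, Equiv.Perm.inv_def, Equiv.symm_apply_apply]
  set r := e6Graph.root t.val with hrdef
  have ht : t.val < 72 := t.2
  have hr : r < 72 := (root_facts t.val ht).1
  have hrr : e6Graph.root r = t.val := (root_facts t.val ht).2.1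
  have e1 := iota_twLam (lamP p) hr
  rw [show (⟨e6Graph.root r, (root_facts r hr).1⟩ : Fin chevE6.nroots) = t from Fin.ext hrr] at e1
  rw [e1, ← fv_eq, ← fv_twist p hr, hrr, fv_eq (lamP p) (hE.perm_lt isWord_lists.2.1 t.2)]
  exact congrArg _ (Fin.ext (hE.wperm_val isWord_lists.2.1 t).symm)

theorem act_wC (b : Bool) (p : Fin 5 × Fin 5) :
    act (wperm hE (wC b)) (iota chevE6 (ZMod 15) (lamP p)) = iota chevE6 (ZMod 15) (lamP (imgP b p)) := by
  funext s
  obtain ⟨t, rfl⟩ := (wperm hE (wC b)).surjective s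
  rw [act_apply, Equiv.Perm.inv_def, Equiv.symm_apply_apply, ← fv_eq (lamP p) t.2, ← fv_wC b p t.2,
    fv_eq _ (hE.perm_lt (isWord_lists.1 b) t.2)]
  exact congrArg _ (Fin.ext (hE.wperm_val (isWord_lists.1 b) t).symm)

variable (a b : F)

/-- The torus subgroup of order 25, moved to the rational form. -/
noncomputable def eEl (p : Fin 5 × Fin 5) : GL chevE6.Idx F := gEl a b * torE z (lamP p) * (gEl a b)⁻¹

/-- The elements acting on it. -/
noncomputable def yEl (c : Bool) : GL chevE6.Idx F := gEl a b * nProd hE F (wC c) * (gEl a b)⁻¹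

theorem eEl_mem (p : Fin 5 × Fin 5) : eEl z a b p ∈ chevE6.group F :=
  mul_mem (mul_mem (gEl_mem a b) (torE_mem z _)) (inv_mem (gEl_mem a b))

theorem yEl_mem (c : Bool) : yEl a b c ∈ chevE6.group F :=
  mul_mem (mul_mem (gEl_mem a b) (nProd_mem (isWord_lists.1 c))) (inv_mem (gEl_mem a b))

variable {a b}

include hφ in
theorem eEl_fixed (ha : a ^ 4 + a = 1) (hb : b ^ 2 + b = 1) (p : Fin 5 × Fin 5) :
    sig φ (eEl z a b p) = eEl z a b p := by
  have hg := gEl_mem a b
  rw [eEl, sig_mul φ (mul_mem hg (torE_mem z _)) (inv_mem hg), sig_mul φ hg (torE_mem z _), sig_torE φ hφ,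
    show sig φ (gEl a b)⁻¹ = (sig φ (gEl a b))⁻¹ from (e6Twist φ).sig_inv hg, sig_gEl φ hφ ha hb, torE]
  calc gEl a b * nProd hE F cStar * tor z (Multiplicative.ofAdd (iota chevE6 (ZMod 15) (twLam (lamP p)))) *
        (gEl a b * nProd hE F cStar)⁻¹
      = gEl a b * (nProd hE F cStar * tor z (Multiplicative.ofAdd (iota chevE6 (ZMod 15) (twLam (lamP p))))) *
          (nProd hE F cStar)⁻¹ * (gEl a b)⁻¹ := by group
    _ = gEl a b * (tor z (Multiplicative.ofAdd (iota chevE6 (ZMod 15) (lamP p))) * nProd hE F cStar) *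
          (nProd hE F cStar)⁻¹ * (gEl a b)⁻¹ := by rw [nProd_conj_tor hE isWord_lists.2.1, act_twLam]
    _ = _ := by rw [torE]; group

include hφ in
theorem yEl_fixed (ha : a ^ 4 + a = 1) (hb : b ^ 2 + b = 1) (c : Bool) : sig φ (yEl a b c) = yEl a b c := by
  have hg := gEl_mem a b
  have hn := nProd_mem (F := F) (isWord_lists.1 c)
  rw [yEl, sig_mul φ (mul_mem hg hn) (inv_mem hg), sig_mul φ hg hn,
    show sig φ (gEl a b)⁻¹ = (sig φ (gEl a b))⁻¹ from (e6Twist φ).sig_inv hg,
    show sig φ (nProd hE F (wC c)) = nProd hE F ((wC c).map e6Graph.node) from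
      (e6Twist φ).sig_nProd (isWord_lists.1 c),
    sig_gEl φ hφ ha hb]
  calc gEl a b * nProd hE F cStar * nProd hE F ((wC c).map e6Graph.node) * (gEl a b * nProd hE F cStar)⁻¹
      = gEl a b * (nProd hE F cStar * nProd hE F ((wC c).map e6Graph.node) * (nProd hE F cStar)⁻¹) *
          (gEl a b)⁻¹ := by group
    _ = gEl a b * nProd hE F (wC c) * (gEl a b)⁻¹ := by
      rw [← nProd_reverse rootedE6 isWord_lists.2.1, ← nProd_append, ← nProd_append,
        nProd_congr rootedE6 ((isWord_lists.2.1.append (node_word6 (isWord_lists.1 c))).append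
          fun i hi => isWord_lists.2.1 i (List.mem_reverse.1 hi)) (isWord_lists.1 c) (wC_comm c)]

theorem yEl_pow (c : Bool) : yEl a b c ^ 8 = 1 := by
  have h : ∀ k : ℕ, nProd hE F (wC c) ^ k = nProd hE F (List.replicate k (wC c)).flatten := by
    intro k
    induction k with
    | zero => simp [nProd]
    | succ k ih => rw [pow_succ', ih, List.replicate_succ, List.flatten_cons, nProd_append]
  have hw : IsWord chevE6 (List.replicate 8 (wC c)).flatten := by
    intro i hi
    obtain ⟨l, hl, hil⟩ := List.mem_flatten.1 hi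
    exact isWord_lists.1 c i ((List.eq_of_mem_replicate hl) ▸ hil)
  have hperm : ∀ k : ℕ, ∀ s, perm E6.cert (List.replicate k (wC c)).flatten s = (perm E6.cert (wC c))^[k] s := by
    intro k
    induction k with
    | zero => intro s; rfl
    | succ k ih =>
      intro s
      rw [List.replicate_succ, List.flatten_cons, perm_append, ih, Function.iterate_succ_apply']
  have h1 : nProd hE F (wC c) ^ 8 = 1 := by
    rw [h, show (1 : GL chevE6.Idx F) = nProd hE F [] by simp [nProd]]
    exact nProd_congr rootedE6 hw (by simp [IsWord]) fun s hs => (hperm 8 s).trans (wC_order c s hs)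
  rw [yEl, ← MulAut.conj_apply, ← map_pow, h1, map_one]

theorem yEl_conj (c : Bool) (p : Fin 5 × Fin 5) :
    yEl a b c * eEl z a b p * (yEl a b c)⁻¹ = eEl z a b (imgP c p) := by
  rw [yEl, eEl, eEl, torE, torE, ← act_wC c p,
    show ∀ g n t : GL chevE6.Idx F, g * n * g⁻¹ * (g * t * g⁻¹) * (g * n * g⁻¹)⁻¹ = g * (n * t * n⁻¹) * g⁻¹ by
      intros; group,
    nProd_conj_tor hE (isWord_lists.1 c)]
  group

/-! ### Descent -/

include hφ in
theorem sig_sig {y : GL chevE6.Idx F} (hy : y ∈ chevE6.group F) :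
    sig φ (sig φ y) = glMap chevE6 (φ.trans φ).toRingHom y := by
  induction hy using Subgroup.closure_induction with
  | mem g hg =>
    obtain ⟨r, t, e⟩ := hg
    have hr : r.val < 72 := r.2
    have hgX : g = X r.val t := Units.ext (by rw [e, ChevCent.coe_xg, ChevalleyDatum.x, dif_pos r.2])
    rw [hgX, sig_X φ hφ hr, sig_X φ hφ (root_facts _ hr).1, (root_facts _ hr).2.1, X_eq r.2, X_eq r.2, glMap_xGL]
    congr 1
    simp [hφ]
  | one => simp [sig, (e6Twist φ).sig_one]
  | mul u v hu hv ihu ihv =>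
    have hu' : u ∈ chevE6.group F := hu
    have hv' : v ∈ chevE6.group F := hv
    rw [sig_mul φ hu' hv', sig_mul φ (sig_mem φ hu') (sig_mem φ hv'), ihu, ihv, map_mul]
  | inv u hu ihu =>
    have hu' : u ∈ chevE6.group F := hu
    rw [show sig φ u⁻¹ = (sig φ u)⁻¹ from (e6Twist φ).sig_inv hu',
      show sig φ (sig φ u)⁻¹ = (sig φ (sig φ u))⁻¹ from (e6Twist φ).sig_inv (sig_mem φ hu'), ihu, map_inv]

variable {K : Type*} [Field K] (f : K →+* F) (ψ : K ≃+* K) (hψ : ∀ t, ψ t = t ^ 2)

include hφ hψ in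
theorem glMap_sig {v : GL chevE6.Idx K} (hv : v ∈ chevE6.group K) [CharP K 2] :
    glMap chevE6 f (sig ψ v) = sig φ (glMap chevE6 f v) := by
  induction hv using Subgroup.closure_induction with
  | mem g hg =>
    obtain ⟨r, t, e⟩ := hg
    have hr : r.val < 72 := r.2
    have hgX : g = X r.val t := Units.ext (by rw [e, ChevCent.coe_xg, ChevalleyDatum.x, dif_pos r.2])
    rw [hgX, sig_X ψ hψ hr, X_eq (show e6Graph.root r.val < chevE6.nroots from (root_facts _ hr).1), X_eq r.2,
      glMap_xGL, glMap_xGL, ← X_eq r.2, sig_X φ hφ hr, map_pow,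
      X_eq (show e6Graph.root r.val < chevE6.nroots from (root_facts _ hr).1)]
  | one => simp [sig, (e6Twist φ).sig_one, (e6Twist ψ).sig_one]
  | mul u v hu hv ihu ihv =>
    have hu' : u ∈ chevE6.group K := hu
    have hv' : v ∈ chevE6.group K := hv
    rw [sig_mul ψ hu' hv', map_mul, ihu, ihv, map_mul,
      sig_mul φ (glMap_group_le f (Subgroup.mem_map_of_mem _ hu')) (glMap_group_le f (Subgroup.mem_map_of_mem _ hv'))]
  | inv u hu ihu =>
    have hu' : u ∈ chevE6.group K := hu
    rw [show sig ψ u⁻¹ = (sig ψ u)⁻¹ from (e6Twist ψ).sig_inv hu', map_inv, ihu, map_inv,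
      show sig φ (glMap chevE6 f u)⁻¹ = (sig φ (glMap chevE6 f u))⁻¹ from
        (e6Twist φ).sig_inv (glMap_group_le f (Subgroup.mem_map_of_mem _ hu'))]

theorem smithE6 : ∃ d : List ℕ, SmithOK chevE6 E6.cert d ∧
    ∏ i : Fin chevE6.rank, Nat.gcd 15 (d.getD i.val 0) = 3 :=
  ⟨_, E6.smith_ok, by decide +kernel⟩

include hφ hψ in
/-- A fixed element of order prime to three comes from the twisted group over the small field. -/
theorem exists_descend [Fintype F] [Fintype K] [CharP K 2] (hF : Fintype.card F = 16) (hK : Fintype.card K = 4)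
    {y : GL chevE6.Idx F} (hy : y ∈ chevE6.group F) (hs : sig φ y = y) {k : ℕ} (hk : y ^ k = 1)
    (h3 : Nat.Coprime k 3) : ∃ v ∈ twistedE6 K 2, glMap chevE6 f v = y := by
  have hfix : ∀ x : F, (φ.trans φ).toRingHom x = x → ∃ u, f u = x := fun x hx =>
    exists_eq_of_pow_eq f x (by simpa [hK, hφ, ← pow_mul] using hx)
  have hσf : ∀ u : K, (φ.trans φ).toRingHom (f u) = f u := fun u => by
    have := congrArg f (FiniteField.pow_card (K := K) u)
    simpa [hK, hφ, ← pow_mul, map_pow] using this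
  have h := pow_mem_map_of_fixed rootedE6 f (φ.trans φ).toRingHom hσf hfix hy (by rw [← sig_sig φ hφ hy, hs, hs])
  obtain ⟨d, hd, hd3⟩ := smithE6
  rw [card_ker_of_smith hd, hF, hd3] at h
  have hy' : y ∈ (chevE6.group K).map (glMap chevE6 f) := by
    have hmem : y ∈ Subgroup.zpowers (y ^ 3) := by
      have : orderOf y ∣ k := orderOf_dvd_of_pow_eq_one hk
      obtain ⟨m, hm⟩ := exists_pow_eq_self_of_coprime ((Nat.Coprime.coprime_dvd_left this h3).symm)
      exact (congrArg (· ∈ Subgroup.zpowers (y ^ 3)) hm).mp (Subgroup.npow_mem_zpowers _ m)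
    exact (Subgroup.zpowers_le.2 h) hmem
  obtain ⟨v, hv, rfl⟩ := hy'
  refine ⟨v, ?_, rfl⟩
  have hfixv : v ∈ (e6Twist ψ).fixedGroup :=
    (e6Twist ψ).mem_fixedGroup.2 ⟨hv, glMap_injective f (by rw [glMap_sig φ hφ f ψ hψ hv, hs])⟩
  have h2 : ∀ t, ψ (ψ t) = t := fun t => by
    have := FiniteField.pow_card (K := K) t
    rw [hK] at this
    rw [hψ, hψ, ← pow_mul]
    exact this
  have e := (e6Orbits Nat.prime_two.isPrimePow (by rw [hK]; rfl) ψ hψ h2).system.eq_fixedGroup
  rw [show twistedE6 K 2 = (e6Twist ψ).fixedGroup from e]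
  exact hfixv

end Cfsg.Agent.Lib.H59.E6Five
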